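import Cfsg.Agent.Lib.Blocks.Decomp.Prim

/-!
Generic facts on the components of a finite dimensional algebra, for the bridge to the setting with
two simple modules.
-/

set_option autoImplicit false
set_option linter.unusedSectionVars false

namespace CfsgLib.KThree

open CfsgLib

variable {K : Type*} [Field K] {A : Type*} [Ring A] [Algebra K A]
  {ι : Type*} [Fintype ι] [DecidableEq ι] {m : ι → ℕ}
  (π : A →ₐ[K] Π i, Matrix (Fin (m i)) (Fin (m i)) K)

/-- The kernel of a map onto matrix algebras with nil kernel is the least. -/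
theorem apply_eq_zero_of_nil (hnil : ∀ a, π a = 0 → IsNilpotent a) {κ : Type*} [Fintype κ]
    [DecidableEq κ] {n : κ → ℕ} (π' : A →ₐ[K] Π i, Matrix (Fin (n i)) (Fin (n i)) K)
    (hπ' : Function.Surjective π') {x : A} (hx : π x = 0) : π' x = 0 := by
  funext i
  ext k l
  obtain ⟨y, hy⟩ := hπ' (Pi.single i (Matrix.single l k 1))
  have hn : IsNilpotent (x * y) := hnil _ (by rw [map_mul, hx, zero_mul])
  have h := (Matrix.isNilpotent_trace_of_isNilpotent
    ((hn.map π').map (Pi.evalRingHom _ i))).eq_zero
  simp only [Pi.evalRingHom_apply, map_mul, Pi.mul_apply, hy, Pi.single_eq_same] at h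
  rw [Matrix.trace_mul_comm, Matrix.trace_single_mul, one_smul] at h
  exact h

/-- A one dimensional representation is one of the components. -/
theorem exists_scalar_component (hπ : Function.Surjective π)
    (hnil : ∀ a, π a = 0 → IsNilpotent a) (φ : A →ₐ[K] K) :
    ∃ i, ∀ x, π x i = φ x • (1 : Matrix (Fin (m i)) (Fin (m i)) K) := by
  choose s hs using hπ
  have hker : ∀ a b, π a = π b → φ a = φ b := fun a b h => by
    have := ((hnil (a - b) (by rw [map_sub, h, sub_self])).map φ).eq_zero
    rwa [map_sub, sub_eq_zero] at this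
  obtain ⟨i, hi⟩ : ∃ i, φ (s (Pi.single i 1)) ≠ 0 := by
    by_contra hc
    push Not at hc
    have h : φ 1 = φ (∑ i, s (Pi.single i 1)) :=
      hker _ _ (by simp [map_sum, hs, Finset.univ_sum_single (fun i => (1 : Matrix (Fin (m i)) (Fin (m i)) K))]; rfl)
    rw [map_one, map_sum, Finset.sum_eq_zero fun i _ => hc i] at h
    exact one_ne_zero h
  let ψ : Matrix (Fin (m i)) (Fin (m i)) K → K := fun X => φ (s (Pi.single i X))
  have hmul : ∀ X Y, ψ X * ψ Y = ψ (X * Y) := fun X Y => by
    show φ _ * φ _ = φ _
    rw [← map_mul]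
    exact hker _ _ (by rw [map_mul, hs, hs, hs, Pi.single_mul])
  have hzero : ψ 0 = 0 := by
    show φ _ = 0
    rw [hker _ 0 (by rw [hs, map_zero, Pi.single_zero]), map_zero]
  have hone : ψ 1 = 1 := by
    have h := hmul 1 1
    rw [mul_one] at h
    exact mul_right_cancel₀ hi (h.trans (one_mul (ψ 1)).symm)
  have hsub : Subsingleton (Fin (m i)) := by
    refine ⟨fun k l => ?_⟩
    by_contra hkl
    have hd : ∀ k, ψ (Matrix.single k k 1) = 0 := fun k => by
      obtain ⟨l, hl⟩ : ∃ l, l ≠ k := by
        by_contra hc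
        push Not at hc
        exact hkl ((hc _).trans (hc _).symm)
      have h0 : ψ (Matrix.single k l 1) * ψ (Matrix.single k l 1) = 0 := by
        rw [hmul, Matrix.single_mul_single_of_ne (c := (1 : K)) k l k hl, hzero]
      have h1 := hmul (Matrix.single k l 1) (Matrix.single l k 1)
      rw [Matrix.single_mul_single_same, one_mul, mul_self_eq_zero.mp h0, zero_mul] at h1
      exact h1.symm
    have h : φ (s (Pi.single i 1)) = φ (∑ k, s (Pi.single i (Matrix.single k k 1))) :=
      hker _ _ (by
        rw [hs, map_sum, Finset.sum_congr rfl fun k _ => hs _]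
        funext j
        rw [Finset.sum_apply]
        rcases eq_or_ne j i with rfl | hj
        · simp only [Pi.single_eq_same]
          exact (Matrix.sum_single_one).symm
        · simp [Pi.single_eq_of_ne hj])
    rw [map_sum, Finset.sum_eq_zero fun k _ => hd k] at h
    exact hi h
  refine ⟨i, fun x => ?_⟩
  ext k l
  have hc : π x i = π x i k k • (1 : Matrix (Fin (m i)) (Fin (m i)) K) := by
    ext a b
    simp [Subsingleton.elim a k, Subsingleton.elim b k]
  have h : φ (s (Pi.single i 1)) * φ x = φ (π x i k k • s (Pi.single i 1)) := by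
    rw [← map_mul]
    exact hker _ _ (by
      rw [map_mul, map_smul, hs]
      funext j
      rcases eq_or_ne j i with rfl | hj
      · simp only [Pi.mul_apply, Pi.smul_apply, Pi.single_eq_same, one_mul]
        exact hc
      · simp [Pi.single_eq_of_ne hj])
  rw [map_smul, show φ (s (Pi.single i 1)) = 1 from hone, one_mul, smul_eq_mul, mul_one] at h
  rw [h, ← hc]

variable [FiniteDimensional K A] [IsAlgClosed K]

/-- Inside the corner of a primitive idempotent a component is scalar. -/
theorem corner_component (hπ : Function.Surjective π) {g : A} (hg : Corner.IsPrim g) (i : ι)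
    (x : A) : π (g * x * g) i = Corner.phi K g x • π g i := by
  set z := g * x * g - Corner.phi K g x • g with hz
  have hgg := hg.idem.eq
  have hgz : g * z = z := by rw [hz, mul_sub, mul_smul_comm, hgg, ← mul_assoc, ← mul_assoc, hgg]
  have hzg : z * g = z := by rw [hz, sub_mul, smul_mul_assoc, hgg, mul_assoc (g * x), hgg]
  suffices h : π z i = 0 by
    rw [hz, map_sub, map_smul, Pi.sub_apply, Pi.smul_apply, sub_eq_zero] at h
    exact h
  ext k l
  obtain ⟨y, hy⟩ := hπ (Pi.single i (Matrix.single l k 1))
  have hn : IsNilpotent (z * (g * y * g)) := hg.isNilpotent_mul_right (K := K) hgz hzg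
    (by rw [mul_assoc (g * y), hgg]) (hg.phi_spec x)
  have h := (Matrix.isNilpotent_trace_of_isNilpotent
    ((hn.map π).map (Pi.evalRingHom _ i))).eq_zero
  rw [Pi.evalRingHom_apply, ← mul_assoc, ← mul_assoc, hzg, map_mul, map_mul, Pi.mul_apply,
    Pi.mul_apply, Matrix.trace_mul_comm, ← mul_assoc, ← Pi.mul_apply, ← map_mul, hgz, hy,
    Pi.single_eq_same, Matrix.trace_mul_comm, Matrix.trace_single_mul, one_smul] at h
  exact h

end CfsgLib.KThree
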