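import Cfsg.Agent.Lib.Blocks.EqualDegree.CenterDim
import Cfsg.Agent.Lib.Blocks.Center
import Cfsg.Agent.Lib.Blocks.BlockTwo

/-!
The central idempotents of a block algebra and the augmentation of the principal block.
-/

set_option autoImplicit false
set_option linter.unusedSectionVars false

namespace CfsgLib.KThree

open Cfsg CfsgLib CfsgLib.GrpRing CfsgLib.Blocks
open CyclicDefect (eB)
open EqualDegree (ctrB)
open scoped ComplexConjugate CfsgLib.Char

variable {M : Ideal AlgInt} [M.IsPrime] {G : Type*} [Group G] [Fintype G]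

variable (M G) in
/-- The augmentation. -/
noncomputable def aug : KG M G →ₐ[ResField M] ResField M :=
  MonoidAlgebra.lift (ResField M) (ResField M) G 1

theorem aug_dlt (g : G) : aug M G (dlt (ResField M) g) = 1 := by
  simp [aug, MonoidAlgebra.lift_single]

theorem aug_eq_sum (a : KG M G) : aug M G a = ∑ g, a.coeff g := by
  conv_lhs => rw [← BlockTwo.elt_coeff a]
  simp [BlockTwo.elt, map_sum, aug, MonoidAlgebra.lift_single]

theorem aug_eB_principal : aug M G (eB M (principalBlock M G)) = 1 := by
  classical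
  have hB : IsPBlock M (principalBlock M G) := isPBlock_principalBlock
  have hl := IsPBlock.memLocalRing_blockCoeff hB
  have h := omega_blockCoeff (principalBlock M G) (trivIrr G)
  rw [indVec_of_mem (show trivIrr G ∈ principalBlock M G from sameBlock_refl _)] at h
  simp only [omega, trivIrr, mul_one, div_one] at h
  rw [aug_eq_sum, Finset.sum_congr rfl fun g _ => CyclicDefect.coeff_eB g,
    ← res_sum _ _ (fun g _ => hl g), h, res_one]

/-- A central idempotent of a block algebra is trivial. -/
theorem eq_of_central_idem {B : Set (IrrCharacter G)} (hB : IsPBlock M B) {f : KG M G}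
    (hf : f ∈ ctrB M B) (hff : f * f = f) : f = 0 ∨ f = eB M B := by
  classical
  obtain ⟨A, hA, hAl, hAr⟩ := EqualDegree.exists_classFunction_lift hf.1
  have hBl := IsPBlock.memLocalRing_blockCoeff hB
  set x : ZK M G := Ideal.Quotient.mk _ (toZO A hA hAl) with hx
  have hb : blockIdem hB = Ideal.Quotient.mk (nullIdeal M G)
      (toZO (blockCoeff B) (isClassFunction_blockCoeff B) hBl) := by
    rw [blockIdem, mk_eq_mk_iff]
    intro g
    rw [ofOmega_toZO, ofOmega_indVec]
    exact memLocalIdeal_sub_self _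
  have key : ∀ (C D : G → ℂ) (hC : IsClassFunction G C) (hD : IsClassFunction G D)
      (hCl : ∀ g, MemLocalRing M (C g)) (hDl : ∀ g, MemLocalRing M (D g)) (E : G → ℂ)
      (hE : IsClassFunction G E) (hEl : ∀ g, MemLocalRing M (E g)),
      (∀ g, res M (conv C D g) = res M (E g)) →
        Ideal.Quotient.mk (nullIdeal M G) (toZO C hC hCl) *
          Ideal.Quotient.mk (nullIdeal M G) (toZO D hD hDl) =
        Ideal.Quotient.mk (nullIdeal M G) (toZO E hE hEl) := by
    intro C D hC hD hCl hDl E hE hEl h
    rw [← map_mul, mk_eq_mk_iff]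
    intro g
    rw [Subring.coe_mul, ofOmega_mul, ofOmega_toZO, ofOmega_toZO, ofOmega_toZO]
    exact (res_eq_iff (memLocalRing_sum _ _ fun y _ => memLocalRing_mul (hCl y) (hDl _))
      (hEl g)).mp (h g)
  have hxx : IsIdempotentElem x := key A A hA hA hAl hAl A hA hAl fun g => by
    rw [EqualDegree.res_conv hAl hAl hAr hAr, hff, hAr]
  have hxb : blockIdem hB * x = x := by
    rw [hb]
    exact key _ A _ hA hBl hAl A hA hAl fun g => by
      rw [EqualDegree.res_conv hBl hAl (fun y => (CyclicDefect.coeff_eB y).symm) hAr, hf.2, hAr]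
  have hout : ∀ χ : IrrCharacter G, χ ∉ B → resQuot χ x = 0 := fun χ hχ => by
    rw [← hxb, map_mul, resQuot_blockIdem hB χ, if_neg hχ, zero_mul]
  obtain ⟨χ₀, hχ₀⟩ := IsPBlock.nonempty hB
  have hin : ∀ χ ∈ B, resQuot χ x = resQuot χ₀ x := fun χ hχ => by
    rw [resQuot_eq_of_sameBlock (IsPBlock.sameBlock hB hχ hχ₀)]
  rcases IsIdempotentElem.iff_eq_zero_or_one.mp (hxx.map (resQuot χ₀)) with h0 | h1
  · left
    have hx0 : x = 0 := eq_zero_of_idempotent hxx fun χ => by
      by_cases hχ : χ ∈ B
      · rw [hin χ hχ, h0]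
      · exact hout χ hχ
    refine MonoidAlgebra.ext (Finsupp.ext fun g => ?_)
    rw [← hAr g]
    rw [hx, Ideal.Quotient.eq_zero_iff_mem, mem_nullIdeal] at hx0
    have := hx0 g
    rw [ofOmega_toZO] at this
    rw [res_eq_zero this]
    rfl
  · right
    have hxB : x = blockIdem hB := idempotent_ext hxx (isIdempotentElem_blockIdem hB) fun χ => by
      by_cases hχ : χ ∈ B
      · rw [hin χ hχ, h1, resQuot_blockIdem hB χ, if_pos hχ]
      · rw [hout χ hχ, resQuot_blockIdem hB χ, if_neg hχ]
    refine MonoidAlgebra.ext (Finsupp.ext fun g => ?_)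
    rw [CyclicDefect.coeff_eB, ← hAr g]
    rw [hb, hx, mk_eq_mk_iff] at hxB
    have := hxB g
    rw [ofOmega_toZO, ofOmega_toZO] at this
    exact (res_eq_iff (hAl g) (hBl g)).mpr this

end CfsgLib.KThree
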