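import Mathlib.Algebra.Algebra.Operations
import Mathlib.Algebra.Algebra.Bilinear
import Mathlib.LinearAlgebra.Dual.Lemmas
import Mathlib.LinearAlgebra.Dimension.Finite

/-!
# The setting of a symmetric algebra with two simple modules and three trace functions

`b` is the unit of the algebra inside `A`, `e` and `f` its idempotents for the two simple modules,
`g` a primitive idempotent below `f` with matrix units `u i`, `v i`.
-/

set_option autoImplicit false

namespace CfsgLib.KThree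

/-- The data. -/
structure Setting (K : Type*) [Field K] (A : Type*) [Ring A] [Algebra K A] where
  b : A
  e : A
  f : A
  g : A
  m : ℕ
  u : Fin m → A
  v : Fin m → A
  bc : ∀ x : A, b * x = x * b
  ee : e * e = e
  ff : f * f = f
  gg : g * g = g
  ef : e * f = 0
  fe : f * e = 0
  add : e + f = b
  fg : f * g = g
  gf : g * f = g
  huv : ∑ i, u i * v i = f
  hvu : ∀ i j, v i * u j = if i = j then g else 0
  hu : ∀ i, f * u i * g = u i
  hv : ∀ i, g * v i * f = v i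
  J : Submodule K A
  Jb : ∀ x ∈ J, b * x = x
  Jl : ∀ (a : A), ∀ x ∈ J, a * x ∈ J
  Jr : ∀ (a : A), ∀ x ∈ J, x * a ∈ J
  Jnil : ∃ N : ℕ, J ^ N = ⊥
  eps : A →ₐ[K] K
  eps_e : eps e = 1
  eps_f : eps f = 0
  eps_J : ∀ x ∈ J, eps x = 0
  chi : A →ₗ[K] K
  chi_e : chi e = 0
  chi_g : chi g = 1
  chi_J : ∀ x ∈ J, chi x = 0
  he : ∀ x : A, e * x * e - eps x • e ∈ J
  hg : ∀ x : A, ∃ c : K, g * x * g - c • g ∈ J
  hef : ∀ x : A, e * x * f ∈ J
  hfe : ∀ x : A, f * x * e ∈ J
  tau : A →ₗ[K] K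
  tau_tr : ∀ x y, tau (x * y) = tau (y * x)
  tau_nd : ∀ x, (∀ y, tau (x * y) = 0) → x = 0
  traces : ∀ F : A →ₗ[K] K, (∀ x y, F (x * y) = F (y * x)) → (∀ x, F (b * x) = F x) →
    ∃ a c d : K, ∀ x, F x = a * eps x + c * chi x + d * tau (b * x)
  cobound : ∀ Γ : A →ₗ[K] A →ₗ[K] K,
    (∀ x y z, Γ x (y * z) + eps x * Γ y z = Γ (x * y) z + Γ x y * eps z) →
      ∃ T : A →ₗ[K] K, ∀ x y, T (x * y) = eps x * T y + T x * eps y + Γ x y
  not_central : ¬ ∀ x : A, f * x = x * f

end CfsgLib.KThree
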