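import Cfsg.Agent.Lib.Blocks.RankOneSmall.Degrees
import Cfsg.Agent.Lib.KThree.BridgeAlg
import Cfsg.Agent.Lib.KThree.BridgeCtr
import Cfsg.Agent.Lib.KThree.Setting

/-!
The block algebra of a principal block with three characters and rank two gives the setting.
-/

set_option autoImplicit false
set_option linter.unusedSectionVars false
set_option linter.style.haveILetI false

namespace CfsgLib.KThree

open Cfsg CfsgLib CfsgLib.GrpRing CfsgLib.Blocks CfsgLib.Blocks.Decomp
open CyclicDefect (eB)
open EqualDegree (ctrB)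
open RankOneSmall (pi_eB_eq_one pi_eB_eq_one_or_zero)
open scoped ComplexConjugate CfsgLib.Char

variable {p : ℕ} {M : Ideal AlgInt} [M.IsPrime] {G : Type*} [Group G] [Fintype G]

/-- The trace functional. -/
noncomputable def coeffOne : KG M G →ₗ[ResField M] ResField M where
  toFun a := a.coeff 1
  map_add' a b := by simp
  map_smul' c a := by simp

theorem coeffOne_tr (a b : KG M G) : coeffOne (a * b) = coeffOne (b * a) :=
  BlockTwo.coeff_mul_one_comm a b

theorem coeffOne_nd {x : KG M G} (hx : ∀ y, coeffOne (x * y) = 0) : x = 0 := by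
  refine MonoidAlgebra.ext (Finsupp.ext fun g => ?_)
  have h : (x * dlt (ResField M) g⁻¹).coeff 1 = 0 := hx (dlt (ResField M) g⁻¹)
  rw [coeff_mul_dlt, inv_inv, one_mul] at h
  rw [h]
  rfl

/-- Every functional comes from an element through the trace. -/
theorem exists_coeffOne_eq (F : KG M G →ₗ[ResField M] ResField M) :
    ∃ z, ∀ x, coeffOne (z * x) = F x := by
  classical
  refine ⟨∑ g, F (dlt (ResField M) g⁻¹) • dlt (ResField M) g, fun x => ?_⟩
  conv_rhs => rw [← BlockTwo.elt_coeff x]
  simp only [BlockTwo.elt, map_sum, Finset.sum_mul, smul_mul_assoc, map_smul, smul_eq_mul]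
  refine Fintype.sum_equiv (Equiv.inv G) _ _ fun g => ?_
  show F (dlt (ResField M) g⁻¹) * (dlt (ResField M) g * x).coeff 1 =
    F (MonoidAlgebra.single g⁻¹ (x.coeff g⁻¹))
  rw [coeff_dlt_mul, mul_one, mul_comm, ← smul_eq_mul, ← map_smul]
  congr 1
  simp

/-- **The setting of the principal block.** -/
theorem exists_setting (hM : IsPModular p M) (hk : Nat.card (principalBlock M G) = 3)
    (hl : blockRank p (principalBlock M G) = 2)
    (hcob : ∀ γ : G → G → ResField M,
      (∀ g h l, γ g (h * l) + γ h l = γ (g * h) l + γ g h) →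
        ∃ t : G → ResField M, ∀ g h, t (g * h) = t g + t h + γ g h) :
    ∃ S : Setting (ResField M) (KG M G), S.b = eB M (principalBlock M G) := by
  classical
  have hB : IsPBlock M (principalBlock M G) := isPBlock_principalBlock
  obtain ⟨S⟩ := nonempty_simples M G
  haveI := S.m_ne
  set K := ResField M with hK
  set b := eB M (principalBlock M G) with hbdef
  have bc : ∀ x, b * x = x * b := CyclicDefect.eB_comm _
  have bb : b * b = b := (CyclicDefect.isIdempotentElem_eB hB).eq
  have epsb : aug M G b = 1 := aug_eB_principal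
  obtain ⟨i₀, hi₀⟩ := exists_scalar_component S.π S.surj S.nil (aug M G)
  have hone : ∀ i, (1 : Matrix (Fin (S.m i)) (Fin (S.m i)) K) ≠ 0 := fun i => one_ne_zero
  -- the two components
  have hb₀ : S.π b i₀ = 1 := by rw [hi₀, epsb, one_smul]
  set T := {i : Fin S.r // S.π b i = 1} with hT
  have hT2 : Nat.card T = 2 := by
    refine le_antisymm (hl ▸ CyclicDefect.card_le_blockRank hM hB S.m_ne S.π S.surj) ?_
    refine (hl.symm.le.trans (blockRank_le_card_inB S hM hB)).trans ?_
    exact Nat.card_le_card_of_injective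
      (fun i => (⟨i.1, pi_eB_eq_one hB S i.2⟩ : T))
      (fun i j h => Subtype.ext (congrArg (fun t : T => t.1) h))
  obtain ⟨⟨i₁, hb₁⟩, hne₁⟩ : ∃ t : T, t ≠ ⟨i₀, hb₀⟩ := by
    have : Nontrivial T := by
      rw [← Finite.one_lt_card_iff_nontrivial]
      omega
    exact exists_ne _
  have hi₁ : i₁ ≠ i₀ := fun h => hne₁ (Subtype.ext h)
  have honly : ∀ i, S.π b i = 1 → i = i₀ ∨ i = i₁ := by
    intro i hi
    by_contra hc
    push Not at hc
    have : 2 < Nat.card T := by
      rw [Nat.card_eq_fintype_card, Fintype.two_lt_card_iff]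
      exact ⟨⟨i₀, hb₀⟩, ⟨i₁, hb₁⟩, ⟨i, hi⟩, fun h => hi₁ (congrArg Subtype.val h).symm,
        fun h => hc.1 (congrArg Subtype.val h).symm, fun h => hc.2 (congrArg Subtype.val h).symm⟩
    omega
  have hvan : ∀ x, b * x = x → ∀ i, i ≠ i₀ → i ≠ i₁ → S.π x i = 0 := by
    intro x hx i h0 h1
    have hbi : S.π b i = 0 := (pi_eB_eq_one_or_zero hB S i).resolve_left fun h =>
      (honly i h).elim h0 h1
    rw [← hx, map_mul, Pi.mul_apply, hbi, zero_mul]
  -- the radical
  let J : Submodule K (KG M G) :=
    { carrier := {x | b * x = x ∧ S.π x = 0}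
      zero_mem' := ⟨mul_zero _, map_zero _⟩
      add_mem' := fun {x y} hx hy =>
        ⟨by rw [mul_add, hx.1, hy.1], by rw [map_add, hx.2, hy.2, add_zero]⟩
      smul_mem' := fun c x hx =>
        ⟨by rw [mul_smul_comm, hx.1], by rw [map_smul, hx.2, smul_zero]⟩ }
  have hmemJ : ∀ x, b * x = x → S.π x i₀ = 0 → S.π x i₁ = 0 → x ∈ J := fun x hx h0 h1 =>
    ⟨hx, funext fun i => by
      by_cases e0 : i = i₀
      · subst e0; exact h0
      by_cases e1 : i = i₁
      · subst e1; exact h1
      exact hvan x hx i e0 e1⟩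
  have Jnil : ∃ N : ℕ, J ^ N = ⊥ := by
    obtain ⟨r, n, -, π', N, hπ', hN⟩ := CyclicDefect.exists_simples M G
    refine ⟨N + 1, le_bot_iff.mp fun x hx => ?_⟩
    have key : ∀ k, ∀ y ∈ J ^ k, y ∈ (RingHom.ker π' : Ideal (KG M G)) ^ k := by
      intro k
      induction k with
      | zero =>
        intro y _
        rw [Submodule.pow_zero, Ideal.one_eq_top]
        exact Submodule.mem_top
      | succ k ih =>
        intro y hy
        rw [pow_succ] at hy
        rw [Submodule.pow_succ]
        refine Submodule.mul_induction_on hy (fun u hu v hv => Ideal.mul_mem_mul (ih u hu) ?_)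
          (fun u v => add_mem)
        exact RingHom.mem_ker.mpr (apply_eq_zero_of_nil S.π S.nil π' hπ' hv.2)
    have h := key (N + 1) x hx
    rw [Submodule.pow_succ, hN, Ideal.bot_mul, Submodule.mem_bot] at h
    rw [Submodule.mem_bot]
    exact h
  -- primitive idempotents
  have hbidem : IsIdempotentElem b := bb
  obtain ⟨s, hs, hso, hsum⟩ := Corner.exists_prim_decomp (K := K) hbidem
  have hbx : ∀ x ∈ s, b * x = x := fun x hx => by
    rw [← hsum, Finset.sum_mul, Finset.sum_eq_single_of_mem x hx fun y hy hne =>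
      hso (Finset.mem_coe.mpr hy) (Finset.mem_coe.mpr hx) hne, (hs x hx).idem.eq]
  obtain ⟨e, he, hee₀⟩ : ∃ e ∈ s, S.π e i₀ ≠ 0 := by
    by_contra hc
    push Not at hc
    refine hone i₀ ?_
    rw [← hb₀, ← hsum, map_sum, Finset.sum_apply, Finset.sum_eq_zero hc]
  have epse : aug M G e = 1 := by
    have h := (IsIdempotentElem.iff_eq_zero_or_one.mp ((hs e he).idem.map (aug M G)))
    exact h.resolve_left fun h0 => hee₀ (by rw [hi₀, h0, zero_smul])
  have hother : ∀ x ∈ s.erase e, S.π x i₀ = 0 ∧ S.π x i₁ ≠ 0 := fun x hx => by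
    obtain ⟨hxe, hxs⟩ := Finset.mem_erase.mp hx
    have h0 : S.π x i₀ = 0 := by
      have h := congrArg (aug M G) (hso (Finset.mem_coe.mpr hxs) (Finset.mem_coe.mpr he) hxe)
      rw [map_mul, map_zero, epse, mul_one] at h
      rw [hi₀, h, zero_smul]
    refine ⟨h0, fun h1 => ?_⟩
    obtain ⟨i, hi⟩ := exists_component S.π S.nil (hs x hxs)
    by_cases e0 : i = i₀
    · subst e0; exact hi h0
    by_cases e1 : i = i₁
    · subst e1; exact hi h1
    exact hi (hvan x (hbx x hxs) i e0 e1)
  have he₁ : S.π e i₁ = 0 := (prim_component S.π S.surj (hs e he) hee₀).2 i₁ hi₁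
  set f := b - e with hfdef
  have hfsum : ∑ x ∈ s.erase e, x = f := by
    rw [hfdef, ← hsum, Finset.sum_erase_eq_sub he]
  have be : b * e = e := hbx e he
  have eb : e * b = e := (bc e).symm.trans be
  have ee : e * e = e := (hs e he).idem.eq
  have ef : e * f = 0 := by rw [hfdef, mul_sub, eb, ee, sub_self]
  have fe : f * e = 0 := by rw [hfdef, sub_mul, be, ee, sub_self]
  have ff : f * f = f := by rw [hfdef, sub_mul, mul_sub, mul_sub, bb, be, eb, ee, sub_self, sub_zero]
  have bf : b * f = f := by rw [hfdef, mul_sub, bb, be]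
  have epsf : aug M G f = 0 := by rw [hfdef, map_sub, epsb, epse, sub_self]
  have hπf₀ : S.π f i₀ = 0 := by rw [hi₀, epsf, zero_smul]
  obtain ⟨g, hgs⟩ : (s.erase e).Nonempty := by
    refine Finset.nonempty_iff_ne_empty.mpr fun h => hone i₁ ?_
    rw [h, Finset.sum_empty] at hfsum
    rw [← hb₁, ← sub_add_cancel b e, ← hfdef, ← hfsum, zero_add, he₁]
  have hg : Corner.IsPrim g := hs g (Finset.mem_erase.mp hgs).2
  obtain ⟨hg₀, hg₁⟩ := hother g hgs
  have hfix : ∀ x ∈ s.erase e, f * x = x ∧ x * f = x := fun x hx => by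
    obtain ⟨hxe, hxs⟩ := Finset.mem_erase.mp hx
    have h1 : e * x = 0 := hso (Finset.mem_coe.mpr he) (Finset.mem_coe.mpr hxs) (Ne.symm hxe)
    have h2 : x * e = 0 := hso (Finset.mem_coe.mpr hxs) (Finset.mem_coe.mpr he) hxe
    exact ⟨by rw [hfdef, sub_mul, hbx x hxs, h1, sub_zero],
      by rw [hfdef, mul_sub, ← bc, hbx x hxs, h2, sub_zero]⟩
  -- matrix units
  let xs : Fin (s.erase e).card → KG M G := fun i => ((s.erase e).equivFin.symm i : KG M G)
  have hxs : ∀ i, xs i ∈ s.erase e := fun i => ((s.erase e).equivFin.symm i).2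
  have hequiv : ∀ i, ∃ u v : KG M G, u * v = xs i ∧ v * u = g ∧
      xs i * u = u ∧ u * g = u ∧ g * v = v ∧ v * xs i = v := fun i =>
    (equiv_of_component S.π S.surj (hs _ (Finset.mem_erase.mp (hxs i)).2) hg
      (hother _ (hxs i)).2 hg₁).exists_corner (hs _ (Finset.mem_erase.mp (hxs i)).2).idem hg.idem
  choose u v huv' hvu' hxu hug hgv hvx using hequiv
  -- the trace of the second component
  let chi : KG M G →ₗ[K] K :=
    ((Matrix.traceLinearMap (Fin (S.m i₁)) K K).comp (LinearMap.proj i₁)).comp S.π.toLinearMap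
  have hchi : ∀ x, chi x = (S.π x i₁).trace := fun x => rfl
  have chig : chi g = 1 := by
    rw [hchi, trace_eq_rank (by rw [← Pi.mul_apply, ← map_mul, hg.idem.eq]),
      show (S.π g i₁).rank = rk S.π i₁ g from rfl, (prim_component S.π S.surj hg hg₁).1, Nat.cast_one]
  have chie : chi e = 0 := by rw [hchi, he₁, Matrix.trace_zero]
  have epsJ : ∀ x ∈ J, aug M G x = 0 := fun x hx =>
    ((S.nil x hx.2).map (aug M G)).eq_zero
  have epsbx : ∀ x, aug M G (b * x) = aug M G x := fun x => by rw [map_mul, epsb, one_mul]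
  have chibx : ∀ x, chi (b * x) = chi x := fun x => by
    rw [hchi, hchi, map_mul, Pi.mul_apply, hb₁, one_mul]
  have htraces : ∀ F : KG M G →ₗ[K] K, (∀ x y, F (x * y) = F (y * x)) →
      (∀ x, F (b * x) = F x) →
        ∃ a c d : K, ∀ x, F x = a * aug M G x + c * chi x + d * coeffOne (b * x) := by
    intro F hFt hFb
    have hz : ∀ F : KG M G →ₗ[K] K, (∀ x y, F (x * y) = F (y * x)) → (∀ x, F (b * x) = F x) →
        ∃ z ∈ ctrB M (principalBlock M G), ∀ x, coeffOne (z * x) = F x := by
      intro F hFt hFb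
      obtain ⟨z, hz⟩ := exists_coeffOne_eq F
      refine ⟨z, ⟨mem_fixAlg.mpr fun y _ => ?_, ?_⟩, hz⟩
      · refine (sub_eq_zero.mp (coeffOne_nd fun x => ?_)).symm
        rw [sub_mul, map_sub, mul_assoc z, hz, mul_assoc (dlt K y), coeffOne_tr (dlt K y),
          mul_assoc z, hz, hFt, sub_self]
      · refine sub_eq_zero.mp (coeffOne_nd fun x => ?_)
        rw [sub_mul, map_sub, ← hbdef, bc, mul_assoc z, hz, hz, hFb, sub_self]
    obtain ⟨z, hzC, hzF⟩ := hz F hFt hFb
    obtain ⟨z₁, hz₁C, hz₁⟩ := hz (aug M G).toLinearMap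
      (fun x y => by simp [mul_comm]) (fun x => epsbx x)
    obtain ⟨z₂, hz₂C, hz₂⟩ := hz chi
      (fun x y => by rw [hchi, hchi, map_mul, map_mul, Pi.mul_apply, Pi.mul_apply,
        Matrix.trace_mul_comm]) chibx
    have hbC : b ∈ ctrB M (principalBlock M G) := ⟨CyclicDefect.eB_mem_fixAlg _ _, bb⟩
    let w : Fin 3 → ctrB M (principalBlock M G) := ![⟨z₁, hz₁C⟩, ⟨z₂, hz₂C⟩, ⟨b, hbC⟩]
    have hli : LinearIndependent K w := by
      rw [Fintype.linearIndependent_iff]
      intro c hc
      have hrel : ∀ x, c 0 * aug M G x + c 1 * chi x + c 2 * coeffOne (b * x) = 0 := fun x => by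
        have h := congrArg
          (fun t : ctrB M (principalBlock M G) => coeffOne ((t : KG M G) * x)) hc
        simp only [Fin.sum_univ_three, w, Submodule.coe_add, Submodule.coe_smul, add_mul,
          smul_mul_assoc, map_add, map_smul, smul_eq_mul, Submodule.coe_zero, zero_mul, map_zero,
          Matrix.cons_val_zero, Matrix.cons_val_one, Matrix.cons_val, hz₁, hz₂,
          AlgHom.toLinearMap_apply] at h
        exact h
      have hc2 : c 2 = 0 := by
        by_contra h2
        have hJ : ∀ x ∈ J, x = 0 := fun x hx => coeffOne_nd fun y => by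
          have hxy : x * y ∈ J := ⟨by rw [← mul_assoc, hx.1], by rw [map_mul, hx.2, zero_mul]⟩
          have h := hrel (x * y)
          rw [epsJ _ hxy, hchi, hxy.2, Pi.zero_apply, Matrix.trace_zero, mul_zero, mul_zero,
            zero_add, zero_add, hxy.1] at h
          exact (mul_eq_zero.mp h).resolve_left h2
        let Ψ : ctrB M (principalBlock M G) →ₗ[K] K × K :=
          LinearMap.prod ((aug M G).toLinearMap.comp (ctrB M (principalBlock M G)).subtype)
            ((((Matrix.entryLinearMap K K (0 : Fin (S.m i₁)) (0 : Fin (S.m i₁))).comp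
              (LinearMap.proj i₁)).comp S.π.toLinearMap).comp
                (ctrB M (principalBlock M G)).subtype)
        have hΨ : Function.Injective Ψ := by
          rw [← LinearMap.ker_eq_bot, LinearMap.ker_eq_bot']
          intro t ht
          obtain ⟨h0, h1⟩ := Prod.mk.inj ht
          change aug M G (t : KG M G) = 0 at h0
          change S.π (t : KG M G) i₁ 0 0 = 0 at h1
          refine Subtype.ext (hJ _ (hmemJ _ t.2.2 (by rw [hi₀, h0, zero_smul]) ?_))
          have hcen : ∀ A, S.π (t : KG M G) i₁ * A = A * S.π (t : KG M G) i₁ := fun A => by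
            obtain ⟨a, ha⟩ := S.surj (Pi.single i₁ A)
            have := congrFun (congrArg S.π (EqualDegree.central_comm t.2.1 a)) i₁
            simpa [map_mul, ha] using this
          rw [PrimeDefect.scalar_of_central hcen 0, h1, zero_smul]
        have h := LinearMap.finrank_le_finrank_of_injective hΨ
        rw [EqualDegree.finrank_ctrB (IsPBlock.isBlockUnion hB), hk, Module.finrank_prod,
          Module.finrank_self] at h
        omega
      have h0 : c 0 = 0 := by
        have h := hrel e
        rw [hc2, epse, chie, mul_one, mul_zero, zero_mul, add_zero, add_zero] at h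
        exact h
      have h1 : c 1 = 0 := by
        have h := hrel g
        rw [hc2, h0, chig, zero_mul, zero_mul, mul_one, add_zero, zero_add] at h
        exact h
      intro i
      fin_cases i <;> assumption
    have htop := hli.span_eq_top_of_card_eq_finrank (by
      rw [EqualDegree.finrank_ctrB (IsPBlock.isBlockUnion hB), hk, Fintype.card_fin])
    obtain ⟨c, hc⟩ := (Submodule.mem_span_range_iff_exists_fun K).mp
      (htop.symm ▸ Submodule.mem_top : (⟨z, hzC⟩ : ctrB M (principalBlock M G)) ∈
        Submodule.span K (Set.range w))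
    refine ⟨c 0, c 1, c 2, fun x => ?_⟩
    have h := congrArg (fun t : ctrB M (principalBlock M G) => coeffOne ((t : KG M G) * x)) hc
    simp only [Fin.sum_univ_three, w, Submodule.coe_add, Submodule.coe_smul, add_mul,
      smul_mul_assoc, map_add, map_smul, smul_eq_mul,
      Matrix.cons_val_zero, Matrix.cons_val_one, Matrix.cons_val, hz₁, hz₂, hzF,
      AlgHom.toLinearMap_apply] at h
    exact h.symm
  refine ⟨{
    b := b, e := e, f := f, g := g, m := (s.erase e).card, u := u, v := v
    bc := bc, ee := ee, ff := ff, gg := hg.idem.eq, ef := ef, fe := fe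
    add := add_sub_cancel e b
    fg := (hfix g hgs).1, gf := (hfix g hgs).2
    huv := ?_, hvu := ?_, hu := ?_, hv := ?_
    J := J, Jb := fun x hx => hx.1
    Jl := fun a x hx => ⟨by rw [← mul_assoc, bc a, mul_assoc, hx.1],
      by rw [map_mul, hx.2, mul_zero]⟩
    Jr := fun a x hx => ⟨by rw [← mul_assoc, hx.1], by rw [map_mul, hx.2, zero_mul]⟩
    Jnil := Jnil
    eps := aug M G, eps_e := epse, eps_f := epsf, eps_J := epsJ
    chi := chi, chi_e := chie, chi_g := chig
    chi_J := fun x hx => by rw [hchi, hx.2, Pi.zero_apply, Matrix.trace_zero]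
    he := ?_, hg := ?_, hef := ?_, hfe := ?_
    tau := coeffOne, tau_tr := coeffOne_tr, tau_nd := fun x hx => coeffOne_nd hx
    traces := htraces, cobound := ?_, not_central := ?_ }, rfl⟩
  · rw [Finset.sum_congr rfl fun i _ => huv' i, ← hfsum, ← Finset.sum_coe_sort (s.erase e)]
    exact Fintype.sum_equiv (s.erase e).equivFin.symm _ _ fun i => rfl
  · intro i j
    split_ifs with h
    · subst h; exact hvu' i
    · rw [← hvx i, ← hxu j, mul_assoc, ← mul_assoc (xs i), hso
        (Finset.mem_coe.mpr (Finset.mem_erase.mp (hxs i)).2)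
        (Finset.mem_coe.mpr (Finset.mem_erase.mp (hxs j)).2)
        (fun e' => h ((s.erase e).equivFin.symm.injective (Subtype.ext e'))), zero_mul, mul_zero]
  · intro i
    rw [mul_assoc, hug, ← hxu i, ← mul_assoc, (hfix _ (hxs i)).1]
  · intro i
    rw [hgv, ← hvx i, mul_assoc, (hfix _ (hxs i)).2]
  · intro x
    refine hmemJ _ ?_ ?_ ?_
    · rw [mul_sub, mul_smul_comm, ← mul_assoc, ← mul_assoc, be]
    · rw [hi₀, map_sub, map_smul, map_mul, map_mul, epse, one_mul, mul_one, smul_eq_mul, mul_one,
        sub_self, zero_smul]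
    · simp [map_sub, map_smul, map_mul, he₁]
  · intro x
    refine ⟨Corner.phi K g x, hmemJ _ ?_ ?_ ?_⟩
    · rw [mul_sub, mul_smul_comm, ← mul_assoc, ← mul_assoc, hbx g (Finset.mem_erase.mp hgs).2]
    · simp [map_sub, map_smul, map_mul, hg₀]
    · rw [map_sub, map_smul, Pi.sub_apply, Pi.smul_apply, corner_component S.π S.surj hg i₁ x,
        sub_self]
  · intro x
    refine hmemJ _ (by rw [← mul_assoc, ← mul_assoc, be]) ?_ ?_
    · simp [map_mul, hπf₀]
    · simp [map_mul, he₁]
  · intro x
    refine hmemJ _ (by rw [← mul_assoc, ← mul_assoc, bf]) ?_ ?_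
    · simp [map_mul, hπf₀]
    · simp [map_mul, he₁]
  · intro Γ hΓ
    obtain ⟨t, ht⟩ := hcob (fun g h => Γ (dlt K g) (dlt K h)) fun g h l => by
      have h1 := hΓ (dlt K g) (dlt K h) (dlt K l)
      rw [aug_dlt, aug_dlt, one_mul, mul_one, dlt_mul, dlt_mul] at h1
      exact h1
    let T : KG M G →ₗ[K] K := ∑ g, t g • (Finsupp.lapply g).comp
      (MonoidAlgebra.coeffLinearEquiv K).toLinearMap
    have hT : ∀ g, T (dlt K g) = t g := fun g => by
      simp [T, LinearMap.sum_apply, Finsupp.single_apply]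
    refine ⟨T, fun x y => ?_⟩
    have key : ((LinearMap.mul K (KG M G)).compr₂ T) =
        (LinearMap.smulRight (aug M G).toLinearMap T) +
          (LinearMap.smulRight T (aug M G).toLinearMap) + Γ := by
      refine LinearMap.ext_basis (MonoidAlgebra.basis G K) (MonoidAlgebra.basis G K) fun g h => ?_
      simp only [MonoidAlgebra.basis_apply, LinearMap.compr₂_apply, LinearMap.add_apply,
        LinearMap.smulRight_apply, AlgHom.toLinearMap_apply, LinearMap.smul_apply, smul_eq_mul]
      show T (dlt K g * dlt K h) = aug M G (dlt K g) * T (dlt K h) +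
        T (dlt K g) * aug M G (dlt K h) + Γ (dlt K g) (dlt K h)
      rw [dlt_mul, hT, hT, hT, aug_dlt, aug_dlt, ht]
      ring
    simpa using LinearMap.congr_fun₂ key x y
  · intro hcen
    have hfC : f ∈ ctrB M (principalBlock M G) :=
      ⟨mem_fixAlg.mpr fun y _ => (hcen _).symm, bf⟩
    rcases eq_of_central_idem hB hfC ff with h | h
    · exact hone i₁ (by rw [← hb₁, ← sub_add_cancel b e, ← hfdef, h, zero_add, he₁])
    · exact zero_ne_one (α := K) (by rw [← epsf, h, epsb])

end CfsgLib.KThree
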