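import Mathlib.GroupTheory.Transfer
import Mathlib.GroupTheory.Sylow
import Mathlib.Algebra.Module.ZMod
import Mathlib.LinearAlgebra.Basis.VectorSpace
import Mathlib.LinearAlgebra.Isomorphisms
import Mathlib.Algebra.CharP.Algebra
import Mathlib.Algebra.Algebra.ZMod
import Mathlib.Algebra.Field.ZMod
import Mathlib.Tactic.LinearCombination

/-!
Two-cocycles with values in a field of characteristic `p` on a group with an elementary abelian
Sylow `p`-subgroup whose automiser inverts it and is transitive on its non-identity elements.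
-/

set_option autoImplicit false
set_option linter.unusedSectionVars false
set_option linter.style.haveILetI false

namespace CfsgLib.KThree

section Square

variable {p : ℕ} [Fact p.Prime]

/-- A finite space with a non-degenerate alternating form has square order. -/
theorem isSquare_card_of_form {V : Type*} [AddCommGroup V] [Module (ZMod p) V] [Finite V]
    (B : V →ₗ[ZMod p] V →ₗ[ZMod p] ZMod p) (halt : ∀ x, B x x = 0)
    (hnd : ∀ x, (∀ y, B x y = 0) → x = 0) : IsSquare (Nat.card V) := by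
  suffices ∀ (n : ℕ) (W : Submodule (ZMod p) V), Nat.card W ≤ n →
      (∀ x ∈ W, (∀ y ∈ W, B x y = 0) → x = 0) → IsSquare (Nat.card W) by
    have h := this (Nat.card V) ⊤ (Nat.card_le_card_of_injective _ Subtype.val_injective)
      fun x _ h => hnd x fun y => h y trivial
    rwa [Nat.card_congr (Submodule.topEquiv (R := ZMod p) (M := V)).toEquiv] at h
  intro n
  induction n with
  | zero =>
    intro W hW _
    exact absurd hW (not_le.2 Nat.card_pos)
  | succ n ih =>
    intro W hW hW'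
    by_cases h0 : ∀ x ∈ W, x = 0
    · haveI : Subsingleton W := ⟨fun a b => Subtype.ext ((h0 a a.2).trans (h0 b b.2).symm)⟩
      rw [Nat.card_unique]
      exact IsSquare.one
    · push Not at h0
      obtain ⟨x, hx, hx0⟩ := h0
      obtain ⟨y, hy, hxy⟩ : ∃ y ∈ W, B x y ≠ 0 := by
        by_contra hc
        push Not at hc
        exact hx0 (hW' x hx hc)
      have hyx : B y x = -B x y := by
        have h := halt (x + y)
        simp only [map_add, LinearMap.add_apply, halt, zero_add, add_zero] at h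
        linear_combination h
      let Φ : W →ₗ[ZMod p] ZMod p × ZMod p :=
        ((B.flip x).comp W.subtype).prod ((B.flip y).comp W.subtype)
      have hpre : ∀ u v : ZMod p, ∃ w : W, Φ w = (u, v) ∧
          ∃ a b : ZMod p, (w : V) = a • y + b • x := fun u v =>
        ⟨⟨(u * (B y x)⁻¹) • y + (v * (B x y)⁻¹) • x,
          add_mem (W.smul_mem _ hy) (W.smul_mem _ hx)⟩, (by
            have hyx0 : B y x ≠ 0 := by rw [hyx]; exact neg_ne_zero.2 hxy
            refine Prod.ext ?_ ?_
            · show B ((u * (B y x)⁻¹) • y + (v * (B x y)⁻¹) • x) x = u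
              simp [halt, hyx0]
            · show B ((u * (B y x)⁻¹) • y + (v * (B x y)⁻¹) • x) y = v
              simp [halt, hxy]),
          _, _, rfl⟩
      have hsurj : Function.Surjective Φ := fun uv => by
        obtain ⟨w, hw, -⟩ := hpre uv.1 uv.2
        exact ⟨w, hw⟩
      have hcard : Nat.card W = Nat.card (LinearMap.ker Φ) * (p * p) := by
        rw [show Nat.card W = Nat.card (W ⧸ LinearMap.ker Φ) * Nat.card (LinearMap.ker Φ) from
            AddSubgroup.card_eq_card_quotient_mul_card_addSubgroup (LinearMap.ker Φ).toAddSubgroup,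
          Nat.card_congr (LinearMap.quotKerEquivOfSurjective Φ hsurj).toEquiv, Nat.card_prod,
          Nat.card_zmod, mul_comm]
      have hp1 : 1 < p := (Fact.out : p.Prime).one_lt
      set K : Submodule (ZMod p) V := (LinearMap.ker Φ).map W.subtype with hK
      have hKc : Nat.card K = Nat.card (LinearMap.ker Φ) :=
        (Nat.card_congr (Submodule.equivMapOfInjective _ W.injective_subtype _).toEquiv).symm
      have hlt : Nat.card (LinearMap.ker Φ) < Nat.card W := by
        rw [hcard]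
        exact lt_mul_of_one_lt_right Nat.card_pos (Nat.one_lt_mul_iff.2 ⟨by omega, by omega, Or.inl hp1⟩)
      have hsq : IsSquare (Nat.card K) := by
        refine ih K (by rw [hKc]; omega) ?_
        rintro z ⟨z', hz', rfl⟩ hz
        refine hW' _ z'.2 fun v hv => ?_
        obtain ⟨w, hw, a, b, hwab⟩ := hpre (Φ ⟨v, hv⟩).1 (Φ ⟨v, hv⟩).2
        have hk : (⟨v, hv⟩ : W) - w ∈ LinearMap.ker Φ := by
          rw [LinearMap.mem_ker, map_sub, hw, sub_self]
        have h1 : B (z' : V) (v - (w : V)) = 0 := hz _ ⟨_, hk, rfl⟩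
        have h2 : B (z' : V) x = 0 := congrArg Prod.fst (LinearMap.mem_ker.1 hz')
        have h3 : B (z' : V) y = 0 := congrArg Prod.snd (LinearMap.mem_ker.1 hz')
        rw [map_sub, hwab, map_add, map_smul, map_smul, h2, h3, smul_zero, smul_zero, add_zero,
          sub_zero] at h1
        exact h1
      rw [hcard, ← hKc]
      exact hsq.mul (IsSquare.mul_self p)

end Square

section Extension

variable {G k : Type*} [Group G] [AddCommGroup k]

/-- the cocycle identity -/
def IsCocycle (γ : G → G → k) : Prop :=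
  ∀ g h l, γ g (h * l) + γ h l = γ (g * h) l + γ g h

variable {γ : G → G → k}

theorem IsCocycle.one_left (hγ : IsCocycle γ) (l : G) : γ 1 l = γ 1 1 := by
  have h := hγ 1 1 l
  rw [one_mul, one_mul] at h
  exact add_right_cancel (h.trans (add_comm _ _))

theorem IsCocycle.one_right (hγ : IsCocycle γ) (g : G) : γ g 1 = γ 1 1 := by
  have h := hγ g 1 1
  rw [mul_one, mul_one] at h
  exact (add_left_cancel h).symm

/-- the central extension of a cocycle -/
@[ext]
structure Ext (hγ : IsCocycle γ) where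
  a : k
  g : G

variable {hγ : IsCocycle γ}

instance : Mul (Ext hγ) := ⟨fun e f => ⟨e.a + f.a + γ e.g f.g, e.g * f.g⟩⟩
instance : One (Ext hγ) := ⟨⟨-γ 1 1, 1⟩⟩
instance : Inv (Ext hγ) := ⟨fun e => ⟨-e.a - γ e.g⁻¹ e.g - γ 1 1, e.g⁻¹⟩⟩

theorem Ext.mul_def (e f : Ext hγ) : e * f = ⟨e.a + f.a + γ e.g f.g, e.g * f.g⟩ := rfl
theorem Ext.one_def : (1 : Ext hγ) = ⟨-γ 1 1, 1⟩ := rfl
theorem Ext.inv_def (e : Ext hγ) : e⁻¹ = ⟨-e.a - γ e.g⁻¹ e.g - γ 1 1, e.g⁻¹⟩ := rfl

instance : Group (Ext hγ) where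
  mul_assoc e f l := by
    have h := hγ e.g f.g l.g
    refine Ext.ext ?_ (mul_assoc e.g f.g l.g)
    show e.a + f.a + γ e.g f.g + l.a + γ (e.g * f.g) l.g =
      e.a + (f.a + l.a + γ f.g l.g) + γ e.g (f.g * l.g)
    calc _ = e.a + f.a + l.a + (γ (e.g * f.g) l.g + γ e.g f.g) := by abel
      _ = e.a + f.a + l.a + (γ e.g (f.g * l.g) + γ f.g l.g) := by rw [h]
      _ = _ := by abel
  one_mul e := by
    refine Ext.ext ?_ (one_mul e.g)
    show -γ 1 1 + e.a + γ 1 e.g = e.a
    rw [hγ.one_left e.g]; abel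
  mul_one e := by
    refine Ext.ext ?_ (mul_one e.g)
    show e.a + -γ 1 1 + γ e.g 1 = e.a
    rw [hγ.one_right e.g]; abel
  inv_mul_cancel e := by
    refine Ext.ext ?_ (inv_mul_cancel e.g)
    show -e.a - γ e.g⁻¹ e.g - γ 1 1 + e.a + γ e.g⁻¹ e.g = -γ 1 1
    abel

variable (hγ) in
/-- the projection -/
def Ext.proj : Ext hγ →* G where
  toFun := Ext.g
  map_one' := rfl
  map_mul' _ _ := rfl

variable (hγ) in
/-- the central subgroup -/
def Ext.incl : Multiplicative k →* Ext hγ where
  toFun a := ⟨a.toAdd - γ 1 1, 1⟩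
  map_one' := Ext.ext (by show (0 : k) - γ 1 1 = -γ 1 1; rw [zero_sub]) rfl
  map_mul' a b := by
    refine Ext.ext ?_ (mul_one 1).symm
    show a.toAdd + b.toAdd - γ 1 1 = a.toAdd - γ 1 1 + (b.toAdd - γ 1 1) + γ 1 1
    abel

theorem Ext.incl_mul (a : k) (e : Ext hγ) :
    Ext.incl hγ (Multiplicative.ofAdd a) * e = ⟨a + e.a, e.g⟩ := by
  refine Ext.ext ?_ (one_mul e.g)
  show a - γ 1 1 + e.a + γ 1 e.g = a + e.a
  rw [hγ.one_left e.g]; abel

theorem Ext.mul_incl (a : k) (e : Ext hγ) :
    e * Ext.incl hγ (Multiplicative.ofAdd a) = ⟨a + e.a, e.g⟩ := by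
  refine Ext.ext ?_ (mul_one e.g)
  show e.a + (a - γ 1 1) + γ e.g 1 = a + e.a
  rw [hγ.one_right e.g]; abel

theorem Ext.incl_comm (a : Multiplicative k) (e : Ext hγ) :
    Ext.incl hγ a * e = e * Ext.incl hγ a :=
  (Ext.incl_mul a.toAdd e).trans (Ext.mul_incl a.toAdd e).symm

theorem Ext.incl_injective : Function.Injective (Ext.incl hγ) := fun a b h =>
  Multiplicative.toAdd.injective (sub_left_injective (congrArg Ext.a h))

theorem Ext.exists_incl {e : Ext hγ} (h : e.g = 1) : ∃ a, Ext.incl hγ a = e :=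
  ⟨Multiplicative.ofAdd (e.a + γ 1 1), Ext.ext (add_sub_cancel_right e.a _) h.symm⟩

/-- the commutator of two lifts of commuting elements -/
theorem Ext.comm_lifts {e f : Ext hγ} (h : e.g * f.g = f.g * e.g) :
    e * f = Ext.incl hγ (Multiplicative.ofAdd (γ e.g f.g - γ f.g e.g)) * (f * e) := by
  rw [Ext.incl_mul]
  refine Ext.ext ?_ h
  show e.a + f.a + γ e.g f.g = γ e.g f.g - γ f.g e.g + (f.a + e.a + γ f.g e.g)
  abel

theorem skew_conj (hγ : IsCocycle γ) {x y : G} (hxy : x * y = y * x) (n : G) :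
    γ (n * x * n⁻¹) (n * y * n⁻¹) - γ (n * y * n⁻¹) (n * x * n⁻¹) = γ x y - γ y x := by
  let e : Ext hγ := ⟨0, x⟩
  let f : Ext hγ := ⟨0, y⟩
  let m : Ext hγ := ⟨0, n⟩
  set ia : Ext hγ := Ext.incl hγ (Multiplicative.ofAdd (γ x y - γ y x)) with hia
  have h1 : e * f = ia * (f * e) := Ext.comm_lifts hxy
  have hxy' : (m * e * m⁻¹).g * (m * f * m⁻¹).g = (m * f * m⁻¹).g * (m * e * m⁻¹).g := by
    show n * x * n⁻¹ * (n * y * n⁻¹) = n * y * n⁻¹ * (n * x * n⁻¹)
    calc _ = n * (x * y) * n⁻¹ := by group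
      _ = n * (y * x) * n⁻¹ := by rw [hxy]
      _ = _ := by group
  have h2 := Ext.comm_lifts hxy'
  have h3 : m * e * m⁻¹ * (m * f * m⁻¹) = ia * (m * f * m⁻¹ * (m * e * m⁻¹)) := by
    calc m * e * m⁻¹ * (m * f * m⁻¹) = m * (e * f) * m⁻¹ := by group
      _ = m * ia * (f * e) * m⁻¹ := by rw [h1]; group
      _ = ia * m * (f * e) * m⁻¹ := by rw [hia, Ext.incl_comm]
      _ = _ := by group
  exact Multiplicative.ofAdd.injective (Ext.incl_injective (mul_right_cancel (h2.symm.trans h3)))

theorem skew_mul (hγ : IsCocycle γ) {x y z : G} (hxz : x * z = z * x) (hyz : y * z = z * y) :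
    γ (x * y) z - γ z (x * y) = γ x z - γ z x + (γ y z - γ z y) := by
  have h1 := hγ x y z
  have h2 := hγ z x y
  have h3 := hγ x z y
  rw [← hyz] at h3
  rw [← hxz] at h2
  have e1 : γ (x * y) z = γ x (y * z) + γ y z - γ x y := eq_sub_of_add_eq h1.symm
  have e2 : γ z (x * y) = γ (x * z) y + γ z x - γ x y := eq_sub_of_add_eq h2
  have e3 : γ x (y * z) = γ (x * z) y + γ x z - γ z y := eq_sub_of_add_eq h3
  rw [e1, e2, e3]
  abel

end Extension

variable {G : Type*} [Group G] [Finite G] {p : ℕ} [Fact p.Prime] {k : Type*} [Field k] [CharP k p]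

/-- the skew form of a cocycle vanishes on the Sylow subgroup -/
theorem skew_eq_zero {γ : G → G → k} (hγ : IsCocycle γ) (P : Sylow p G)
    (hcomm : ∀ x ∈ P, ∀ y ∈ P, x * y = y * x) (helem : ∀ x ∈ P, x ^ p = 1)
    (htrans : ∀ x ∈ P, ∀ y ∈ P, x ≠ 1 → y ≠ 1 →
      ∃ n ∈ Subgroup.normalizer ((P : Subgroup G) : Set G), n * x * n⁻¹ = y)
    (hsq : ¬ IsSquare (Nat.card (P : Subgroup G))) {x y : G} (hx : x ∈ P) (hy : y ∈ P) :
    γ x y = γ y x := by
  classical
  letI : CommGroup (P : Subgroup G) :=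
    { (inferInstance : Group (P : Subgroup G)) with
      mul_comm := fun a b => Subtype.ext (hcomm _ a.2 _ b.2) }
  haveI : Module (ZMod p) (Additive (P : Subgroup G)) := AddCommGroup.zmodModule (n := p)
    (fun v => by
      show Additive.ofMul ((Additive.toMul v) ^ p) = 0
      rw [show (Additive.toMul v) ^ p = 1 from Subtype.ext (helem _ (Additive.toMul v).2)]
      rfl)
  letI : Algebra (ZMod p) k := ZMod.algebra k p
  by_contra hne
  obtain ⟨lam, hlam⟩ : ∃ lam : k →ₗ[ZMod p] ZMod p, lam (γ x y - γ y x) ≠ 0 := by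
    let b := Module.Basis.ofVectorSpace (ZMod p) k
    by_contra hc
    push Not at hc
    exact sub_ne_zero.2 hne (b.ext_elem fun i => by simpa using hc (b.coord i))
  let β : ↥(P : Subgroup G) → ↥(P : Subgroup G) → ZMod p :=
    fun a c => lam (γ (a : G) (c : G) - γ (c : G) (a : G))
  have hβ : ∀ a b c : (P : Subgroup G), β (a * b) c = β a c + β b c := fun a b c => by
    show lam _ = lam _ + lam _
    rw [← map_add, Subgroup.coe_mul, skew_mul hγ (hcomm _ a.2 _ c.2) (hcomm _ b.2 _ c.2)]
  have hβs : ∀ a c : (P : Subgroup G), β a c = - β c a := fun a c => by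
    show lam _ = - lam _
    rw [← map_neg, neg_sub]
  have hβ2 : ∀ a b c : (P : Subgroup G), β a (b * c) = β a b + β a c := fun a b c => by
    rw [hβs a, hβ, hβs b a, hβs c a, neg_add, neg_neg, neg_neg]
  let A : Additive (P : Subgroup G) →+ Additive (P : Subgroup G) →+ ZMod p :=
    AddMonoidHom.mk' (fun v => AddMonoidHom.mk' (fun w => β v.toMul w.toMul)
        fun _ _ => hβ2 _ _ _)
      fun _ _ => AddMonoidHom.ext fun _ => hβ _ _ _
  let B : Additive (P : Subgroup G) →ₗ[ZMod p] Additive (P : Subgroup G) →ₗ[ZMod p] ZMod p :=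
    (AddMonoidHom.mk' (fun v => (A v).toZModLinearMap p)
      fun v w => LinearMap.ext fun z => DFunLike.congr_fun (map_add A v w) z).toZModLinearMap p
  refine hsq ?_
  rw [← Nat.card_congr (Additive.ofMul (α := (P : Subgroup G))).symm]
  refine isSquare_card_of_form B (fun v => ?_) (fun v hv => ?_)
  · show lam _ = 0
    rw [sub_self, map_zero]
  · -- the radical is invariant under the normalizer
    by_contra hv0
    apply hlam
    by_cases hx1 : x = 1
    · rw [hx1, hγ.one_left y, hγ.one_right y, sub_self, map_zero]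
    obtain ⟨n, hn, hnx⟩ := htrans _ v.toMul.2 x hx
      (fun h => hv0 (Additive.toMul.injective (Subtype.ext h))) hx1
    have hy' : n⁻¹ * y * n ∈ (P : Subgroup G) := (Subgroup.mem_normalizer_iff''.1 hn y).1 hy
    have h : lam (γ (v.toMul : G) (n⁻¹ * y * n) - γ (n⁻¹ * y * n) (v.toMul : G)) = 0 :=
      hv (Additive.ofMul ⟨_, hy'⟩)
    have hc := skew_conj hγ (hcomm _ v.toMul.2 _ hy') n
    rw [hnx, show n * (n⁻¹ * y * n) * n⁻¹ = y by group] at hc
    rwa [hc]

/-- A cocycle into a field of characteristic `p` is a coboundary. -/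
theorem exists_cobound (hp : p ≠ 2) (P : Sylow p G)
    (hcomm : ∀ x ∈ P, ∀ y ∈ P, x * y = y * x) (helem : ∀ x ∈ P, x ^ p = 1)
    (hinv : ∃ t : G, ∀ x ∈ P, t * x * t⁻¹ = x⁻¹)
    (htrans : ∀ x ∈ P, ∀ y ∈ P, x ≠ 1 → y ≠ 1 →
      ∃ n ∈ Subgroup.normalizer ((P : Subgroup G) : Set G), n * x * n⁻¹ = y)
    (hsq : ¬ IsSquare (Nat.card (P : Subgroup G)))
    (γ : G → G → k) (hγ : ∀ g h l, γ g (h * l) + γ h l = γ (g * h) l + γ g h) :
    ∃ t : G → k, ∀ g h, t (g * h) = t g + t h + γ g h := by
  classical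
  have hc : IsCocycle γ := hγ
  set E := (P : Subgroup G).comap (Ext.proj hc) with hE
  have hab : ∀ e f : E, e * f = f * e := fun e f => Subtype.ext (by
    have h : (e : Ext hc) * f = _ := Ext.comm_lifts (hcomm _ e.2 _ f.2)
    rw [show γ (e : Ext hc).g (f : Ext hc).g = γ (f : Ext hc).g (e : Ext hc).g from
      skew_eq_zero hc P hcomm helem htrans hsq e.2 f.2, sub_self, ofAdd_zero, map_one,
      one_mul] at h
    exact h)
  have h2 : (2 : k) ≠ 0 := fun h => by
    have h' : ((2 : ℕ) : k) = 0 := by exact_mod_cast h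
    rw [CharP.cast_eq_zero_iff k p] at h'
    exact hp ((Nat.prime_dvd_prime_iff_eq Fact.out Nat.prime_two).1 h')
  have hpz : ∀ a : Multiplicative k, a ^ p = 1 := fun a =>
    Multiplicative.toAdd.injective (by
      show p • a.toAdd = 0
      rw [nsmul_eq_mul, CharP.cast_eq_zero, zero_mul])
  have hexp : ∀ e : E, e ^ p = 1 := by
    intro e
    obtain ⟨t, ht⟩ := hinv
    let τ : Ext hc := ⟨0, t⟩
    have hep : ((e : Ext hc) ^ p).g = 1 := by
      show Ext.proj hc ((e : Ext hc) ^ p) = 1
      rw [map_pow]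
      exact helem _ e.2
    obtain ⟨a, ha⟩ := Ext.exists_incl hep
    obtain ⟨b, hb⟩ := Ext.exists_incl (e := τ * (e : Ext hc) * τ⁻¹ * (e : Ext hc)) (by
      show t * (e : Ext hc).g * t⁻¹ * (e : Ext hc).g = 1
      rw [ht (e : Ext hc).g e.2, inv_mul_cancel])
    have h1 : (τ * (e : Ext hc) * τ⁻¹) ^ p = Ext.incl hc a := by
      rw [← MulAut.conj_apply, ← map_pow, ← ha, MulAut.conj_apply, ← Ext.incl_comm,
        mul_inv_cancel_right]
    have h3 : (τ * (e : Ext hc) * τ⁻¹) ^ p = Ext.incl hc a⁻¹ := by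
      rw [show τ * (e : Ext hc) * τ⁻¹ = Ext.incl hc b * (e : Ext hc)⁻¹ from
          eq_mul_inv_of_mul_eq hb.symm,
        (show Commute (Ext.incl hc b) (e : Ext hc)⁻¹ from Ext.incl_comm b _).mul_pow, ← map_pow,
        hpz, map_one, one_mul, inv_pow, ← ha, map_inv]
    have h4 := congrArg Multiplicative.toAdd (Ext.incl_injective (h1.symm.trans h3))
    rw [toAdd_inv] at h4
    have h5 : a.toAdd = 0 := by
      have : (2 : k) * a.toAdd = 0 := by linear_combination h4
      exact (mul_eq_zero.1 this).resolve_left h2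
    refine Subtype.ext ?_
    rw [SubgroupClass.coe_pow, ← ha, show a = 1 from Multiplicative.toAdd.injective h5, map_one]
    rfl
  -- a retraction on the preimage of the Sylow subgroup
  letI : CommGroup E := { (inferInstance : Group E) with mul_comm := hab }
  haveI : Module (ZMod p) (Additive E) := AddCommGroup.zmodModule (n := p) (fun v => by
    show Additive.ofMul ((Additive.toMul v) ^ p) = 0
    rw [hexp]
    rfl)
  letI : Algebra (ZMod p) k := ZMod.algebra k p
  let j : k →ₗ[ZMod p] Additive E :=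
    (AddMonoidHom.mk'
      (fun a => Additive.ofMul (⟨Ext.incl hc (Multiplicative.ofAdd a), show (1 : G) ∈ (P : Subgroup G) from one_mem _⟩ : E))
      fun a b => congrArg Additive.ofMul (Subtype.ext (by
        show Ext.incl hc _ = Ext.incl hc _ * Ext.incl hc _
        rw [ofAdd_add, map_mul]))).toZModLinearMap p
  obtain ⟨r, hr⟩ := j.exists_leftInverse_of_injective (LinearMap.ker_eq_bot.2 fun a b h =>
    Multiplicative.ofAdd.injective (Ext.incl_injective
      (congrArg (fun v => ((Additive.toMul v : E) : Ext hc)) h)))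
  let φ : E →* Multiplicative k :=
    { toFun := fun e => Multiplicative.ofAdd (r (Additive.ofMul e))
      map_one' := by rw [ofMul_one, map_zero, ofAdd_zero]
      map_mul' := fun e f => by rw [ofMul_mul, map_add, ofAdd_add] }
  have hidx : E.index = (P : Subgroup G).index :=
    Subgroup.index_comap_of_surjective _ fun g => ⟨⟨0, g⟩, rfl⟩
  haveI : E.FiniteIndex := ⟨by rw [hidx]; exact Subgroup.index_ne_zero_of_finite⟩
  let V := MonoidHom.transfer φ
  have hV : ∀ a : k, (V (Ext.incl hc (Multiplicative.ofAdd a))).toAdd = (E.index : k) * a := by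
    intro a
    have hm : Ext.incl hc (Multiplicative.ofAdd a) ∈ E := one_mem (P : Subgroup G)
    have hcen : Ext.incl hc (Multiplicative.ofAdd a) ∈ Subgroup.center (Ext hc) :=
      Subgroup.mem_center_iff.2 fun e => (Ext.incl_comm _ e).symm
    rw [MonoidHom.transfer_eq_pow φ _ fun j g hj => by
      rw [Subgroup.mem_center_iff.1 (pow_mem hcen j) g⁻¹, inv_mul_cancel_right]]
    simp only [← map_pow]
    show r (Additive.ofMul (⟨Ext.incl hc ((Multiplicative.ofAdd a) ^ E.index), _⟩ : E)) = _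
    rw [← nsmul_eq_mul]
    exact LinearMap.congr_fun hr (E.index • a)
  have hne : (E.index : k) ≠ 0 := fun h => by
    rw [CharP.cast_eq_zero_iff k p, hidx] at h
    exact P.not_dvd_index h
  refine ⟨fun g => - (E.index : k)⁻¹ * (V ⟨0, g⟩).toAdd, fun g h => ?_⟩
  have hgh : (⟨0, g⟩ : Ext hc) * ⟨0, h⟩ =
      Ext.incl hc (Multiplicative.ofAdd (γ g h)) * ⟨0, g * h⟩ := by
    rw [Ext.incl_mul]
    refine Ext.ext ?_ rfl
    show 0 + 0 + γ g h = γ g h + 0
    abel
  have h' := congrArg (fun e => (V e).toAdd) hgh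
  simp only [map_mul, toAdd_mul, hV] at h'
  have hi := inv_mul_cancel₀ hne
  linear_combination (E.index : k)⁻¹ * h' + γ g h * hi

end CfsgLib.KThree
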