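import Cfsg.Agent.Lib.KThree.Setting
import Mathlib.Tactic.Module
import Mathlib.Tactic.Abel
import Mathlib.Tactic.LinearCombination

/-!
# A symmetric algebra with two simples and three trace functions has small projective modules
-/

set_option autoImplicit false
set_option linter.unusedSectionVars false

namespace CfsgLib.KThree

variable {K : Type*} [Field K] {A : Type*} [Ring A] [Algebra K A] (S : Setting K A)

namespace Setting

/-- The second power of the radical. -/
def J2 : Submodule K A := S.J * S.J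

/-- The third power of the radical. -/
def J3 : Submodule K A := S.J * S.J * S.J

/-- The partial trace into the corner of `g`. -/
def G : A →ₗ[K] A := ∑ i, (LinearMap.mulLeft K (S.v i)).comp (LinearMap.mulRight K (S.u i))

theorem G_apply (x : A) : S.G x = ∑ i, S.v i * x * S.u i := by
  simp [G, mul_assoc]

theorem mem_J2 {x y : A} (hx : x ∈ S.J) (hy : y ∈ S.J) : x * y ∈ S.J2 :=
  Submodule.mul_mem_mul hx hy

theorem mem_J3 {x y : A} (hx : x ∈ S.J2) (hy : y ∈ S.J) : x * y ∈ S.J3 :=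
  Submodule.mul_mem_mul hx hy

theorem mem_J3' {x y : A} (hx : x ∈ S.J) (hy : y ∈ S.J2) : x * y ∈ S.J3 := by
  have h : S.J3 = S.J * S.J2 := by rw [J3, J2, mul_assoc]
  rw [h]; exact Submodule.mul_mem_mul hx hy

theorem J2_le : S.J2 ≤ S.J := Submodule.mul_le.mpr fun x _ y hy => S.Jl x y hy

theorem J3_le : S.J3 ≤ S.J2 := Submodule.mul_le.mpr fun _ hx y hy =>
  Submodule.mul_mem_mul (S.J2_le hx) hy

theorem J2_l (a : A) {x : A} (hx : x ∈ S.J2) : a * x ∈ S.J2 :=
  Submodule.mul_induction_on hx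
    (fun p hp q hq => by rw [← mul_assoc]; exact S.mem_J2 (S.Jl a p hp) hq)
    fun p q hp hq => by rw [mul_add]; exact add_mem hp hq

theorem J2_r (a : A) {x : A} (hx : x ∈ S.J2) : x * a ∈ S.J2 :=
  Submodule.mul_induction_on hx
    (fun p hp q hq => by rw [mul_assoc]; exact S.mem_J2 hp (S.Jr a q hq))
    fun p q hp hq => by rw [add_mul]; exact add_mem hp hq

theorem J3_l (a : A) {x : A} (hx : x ∈ S.J3) : a * x ∈ S.J3 :=
  Submodule.mul_induction_on hx
    (fun p hp q hq => by rw [← mul_assoc]; exact S.mem_J3 (S.J2_l a hp) hq)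
    fun p q hp hq => by rw [mul_add]; exact add_mem hp hq

theorem J3_r (a : A) {x : A} (hx : x ∈ S.J3) : x * a ∈ S.J3 :=
  Submodule.mul_induction_on hx
    (fun p hp q hq => by rw [mul_assoc]; exact S.mem_J3 hp (S.Jr a q hq))
    fun p q hp hq => by rw [add_mul]; exact add_mem hp hq

theorem bb : S.b * S.b = S.b := by
  rw [← S.add, add_mul, mul_add, mul_add, S.ee, S.ef, S.fe, S.ff]; abel

theorem eb : S.e * S.b = S.e := by rw [← S.add, mul_add, S.ee, S.ef, add_zero]

theorem be : S.b * S.e = S.e := by rw [S.bc, S.eb]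

theorem fb : S.f * S.b = S.f := by rw [← S.add, mul_add, S.fe, S.ff, zero_add]

theorem bf : S.b * S.f = S.f := by rw [S.bc, S.fb]

theorem eg : S.e * S.g = 0 := by rw [← S.fg, ← mul_assoc, S.ef, zero_mul]

theorem ge : S.g * S.e = 0 := by rw [← S.gf, mul_assoc, S.fe, mul_zero]

theorem fu (i : Fin S.m) : S.f * S.u i = S.u i := by
  conv_lhs => rw [← S.hu i]
  rw [← mul_assoc, ← mul_assoc, S.ff, S.hu i]

theorem ug (i : Fin S.m) : S.u i * S.g = S.u i := by
  conv_lhs => rw [← S.hu i]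
  rw [mul_assoc, S.gg, S.hu i]

theorem gv (i : Fin S.m) : S.g * S.v i = S.v i := by
  conv_lhs => rw [← S.hv i]
  rw [← mul_assoc, ← mul_assoc, S.gg, S.hv i]

theorem vf (i : Fin S.m) : S.v i * S.f = S.v i := by
  conv_lhs => rw [← S.hv i]
  rw [mul_assoc, S.ff, S.hv i]

theorem ve (i : Fin S.m) : S.v i * S.e = 0 := by
  rw [← S.vf i, mul_assoc, S.fe, mul_zero]

theorem eu (i : Fin S.m) : S.e * S.u i = 0 := by
  rw [← S.fu i, ← mul_assoc, S.ef, zero_mul]

theorem vb (i : Fin S.m) : S.v i * S.b = S.v i := by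
  rw [← S.add, mul_add, S.ve, S.vf, zero_add]

/-- Split a product through the two idempotents. -/
theorem split (w x y : A) (hw : w * S.b = w) :
    w * (x * y) = w * x * S.e * y + w * x * S.f * y := by
  rw [← add_mul, ← mul_add, S.add, mul_assoc w x S.b, ← S.bc x, ← mul_assoc w S.b x, hw,
    mul_assoc]

theorem G_mem (P : Submodule K A) (hl : ∀ (a : A), ∀ x ∈ P, a * x ∈ P)
    (hr : ∀ (a : A), ∀ x ∈ P, x * a ∈ P) {x : A} (hx : x ∈ P) : S.G x ∈ P := by
  rw [S.G_apply]
  exact Submodule.sum_mem _ fun i _ => hr _ _ (hl _ _ hx)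

theorem G_b (x : A) : S.G (S.b * x) = S.G x := by
  simp only [S.G_apply]
  exact Finset.sum_congr rfl fun i _ => by rw [← mul_assoc (S.v i), S.vb]

theorem G_e_left (x : A) : S.G (S.e * x) = 0 := by
  simp only [S.G_apply]
  exact Finset.sum_eq_zero fun i _ => by rw [← mul_assoc (S.v i), S.ve, zero_mul, zero_mul]

theorem G_f (x : A) : S.G (S.f * x) = S.G x := by
  simp only [S.G_apply]
  exact Finset.sum_congr rfl fun i _ => by rw [← mul_assoc (S.v i), S.vf]

theorem G_mul (x y : A) : S.G (x * y) = S.G (x * S.e * y) + S.G (x * S.f * y) := by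
  simp only [S.G_apply]
  rw [← Finset.sum_add_distrib]
  refine Finset.sum_congr rfl fun i _ => ?_
  rw [S.split (S.v i) x y (S.vb i), add_mul]
  simp only [mul_assoc]

theorem G_mid (x y : A) :
    S.G (x * S.f * y) = ∑ i, ∑ j, S.v i * x * S.u j * (S.v j * y * S.u i) := by
  rw [S.G_apply]
  refine Finset.sum_congr rfl fun i _ => ?_
  rw [← S.huv, Finset.mul_sum, Finset.sum_mul, Finset.mul_sum, Finset.sum_mul]
  exact Finset.sum_congr rfl fun j _ => by simp only [mul_assoc]

theorem corner_g (i j : Fin S.m) (x : A) :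
    S.g * (S.v i * x * S.u j) * S.g = S.v i * x * S.u j := by
  rw [← mul_assoc, ← mul_assoc, S.gv, mul_assoc _ (S.u j), S.ug]

/-- Two elements of a corner commute modulo a square. -/
theorem corner_comm {h a a' : A} {P P' : Submodule K A} {c c' : K}
    (hP : ∀ x ∈ P, ∀ y ∈ P, x * y ∈ P') (hh : h * h = h) (ha : h * a * h = a) (ha' : h * a' * h = a')
    (h1 : h * a * h - c • h ∈ P) (h2 : h * a' * h - c' • h ∈ P) : a * a' - a' * a ∈ P' := by
  rw [ha] at h1
  rw [ha'] at h2
  have l : h * a = a := by rw [← ha, ← mul_assoc, ← mul_assoc, hh]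
  have r : a * h = a := by rw [← ha, mul_assoc, hh]
  have l' : h * a' = a' := by rw [← ha', ← mul_assoc, ← mul_assoc, hh]
  have r' : a' * h = a' := by rw [← ha', mul_assoc, hh]
  have key : a * a' - a' * a =
      (a - c • h) * (a' - c' • h) - (a' - c' • h) * (a - c • h) := by
    simp only [sub_mul, mul_sub, smul_mul_assoc, mul_smul_comm, l, r, l', r', hh]
    module
  rw [key]
  exact sub_mem (hP _ h1 _ h2) (hP _ h2 _ h1)

theorem G_symm {P P' : Submodule K A} (hP : ∀ x ∈ P, ∀ y ∈ P, x * y ∈ P')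
    (hg : ∀ x : A, ∃ c : K, S.g * x * S.g - c • S.g ∈ P) (x y : A) :
    S.G (x * S.f * y) - S.G (y * S.f * x) ∈ P' := by
  rw [S.G_mid, S.G_mid, Finset.sum_comm (f := fun i j => S.v i * y * S.u j * (S.v j * x * S.u i)),
    ← Finset.sum_sub_distrib]
  refine Submodule.sum_mem _ fun i _ => ?_
  rw [← Finset.sum_sub_distrib]
  refine Submodule.sum_mem _ fun j _ => ?_
  obtain ⟨c, hc⟩ := hg (S.v i * x * S.u j)
  obtain ⟨c', hc'⟩ := hg (S.v j * y * S.u i)
  exact corner_comm hP S.gg (S.corner_g i j x) (S.corner_g j i y) hc hc'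

theorem G_fix {P P' : Submodule K A} (hP : ∀ x ∈ P, ∀ y ∈ P, x * y ∈ P')
    (hg : ∀ x : A, ∃ c : K, S.g * x * S.g - c • S.g ∈ P) {z : A} (hz : S.g * z * S.g = z) :
    S.G z - z ∈ P' := by
  have zg : z * S.g = z := by rw [← hz, mul_assoc, S.gg]
  have gz : S.g * z = z := by rw [← hz, ← mul_assoc, ← mul_assoc, S.gg]
  have e1 : z = ∑ i, z * (S.g * S.u i) * (S.v i * S.g) := by
    calc z = z * (S.g * S.f * S.g) := by rw [S.gf, S.gg, zg]
      _ = _ := by
        rw [← S.huv, Finset.mul_sum, Finset.sum_mul, Finset.mul_sum]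
        exact Finset.sum_congr rfl fun i _ => by simp only [mul_assoc]
  conv in (occs := 2) z => rw [e1]
  rw [S.G_apply, ← Finset.sum_sub_distrib]
  refine Submodule.sum_mem _ fun i _ => ?_
  have h0 : S.v i * z * S.u i = S.v i * S.g * (z * (S.g * S.u i)) := by
    rw [← mul_assoc z, zg, mul_assoc, mul_assoc (S.v i) S.g, ← mul_assoc S.g z, gz]
  rw [h0]
  have ha : S.g * (S.v i * S.g) * S.g = S.v i * S.g := by rw [← mul_assoc, S.gv, mul_assoc, S.gg]
  have ha' : S.g * (z * (S.g * S.u i)) * S.g = z * (S.g * S.u i) := by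
    rw [← mul_assoc, gz, mul_assoc, mul_assoc, S.ug]
  obtain ⟨c, hc⟩ := hg (S.v i * S.g)
  obtain ⟨c', hc'⟩ := hg (z * (S.g * S.u i))
  exact corner_comm hP S.gg ha ha' hc hc'

/-- A trace function killing both idempotents and a non-zero ideal is zero. -/
theorem kill {F : A →ₗ[K] K} (htr : ∀ x y, F (x * y) = F (y * x)) (hb : ∀ x, F (S.b * x) = F x)
    {P : Submodule K A} (hP : P ≤ S.J) (hPr : ∀ (a : A), ∀ x ∈ P, x * a ∈ P) (hne : P ≠ ⊥)
    (h0 : ∀ x ∈ P, F x = 0) (he : F S.e = 0) (hg : F S.g = 0) : ∀ x, F x = 0 := by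
  obtain ⟨a, c, d, h⟩ := S.traces F htr hb
  have hd : d = 0 := by
    by_contra hd
    refine hne (Submodule.eq_bot_iff _ |>.mpr fun x hx => S.tau_nd x fun y => ?_)
    have hm := hPr y x hx
    have := h (x * y)
    rw [h0 _ hm, S.eps_J _ (hP hm), S.chi_J _ (hP hm), S.Jb _ (hP hm), mul_zero, mul_zero,
      zero_add, zero_add] at this
    exact (mul_eq_zero.mp this.symm).resolve_left hd
  subst hd
  have h1 := h S.e
  rw [he, S.eps_e, S.chi_e, zero_mul, mul_zero, add_zero, add_zero, mul_one] at h1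
  have h2 := h S.g
  have heg : S.eps S.g = 0 := by rw [← S.fg, map_mul, S.eps_f, zero_mul]
  rw [hg, heg, S.chi_g, zero_mul, mul_zero, zero_add, add_zero, mul_one] at h2
  intro x
  rw [h x, ← h1, ← h2, zero_mul, zero_mul, zero_mul, add_zero, add_zero]

theorem eps_g : S.eps S.g = 0 := by rw [← S.fg, map_mul, S.eps_f, zero_mul]

/-- If the two off-diagonal parts vanish, `f` would be central. -/
theorem not_split (h1 : ∀ x, S.e * x * S.f = 0) (h2 : ∀ x, S.f * x * S.e = 0) : False := by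
  refine S.not_central fun x => ?_
  have a : S.f * x = S.f * x * S.f := by
    calc S.f * x = S.f * (x * S.b) := by rw [← S.bc, ← mul_assoc, S.fb]
      _ = _ := by rw [← S.add, mul_add, mul_add, ← mul_assoc, ← mul_assoc, h2, zero_add]
  have c : x * S.f = S.f * x * S.f := by
    calc x * S.f = x * S.b * S.f := by rw [mul_assoc, S.bf]
      _ = S.b * x * S.f := by rw [S.bc]
      _ = _ := by rw [← S.add, add_mul, add_mul, h1, zero_add]
  rw [a, c]

theorem loop_e (hne : S.J2 ≠ ⊥) {x : A} : S.e * x * S.e - S.eps x • S.e ∈ S.J2 := by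
  by_contra hx
  set W : Submodule K A := Submodule.span K {S.e} ⊔ S.J2
  by_cases hW : S.e * x * S.e ∈ W
  · obtain ⟨w, hw, s, hs, hws⟩ := Submodule.mem_sup.mp hW
    obtain ⟨c, rfl⟩ := Submodule.mem_span_singleton.mp hw
    have := congrArg S.eps hws
    rw [map_add, map_smul, S.eps_e, S.eps_J _ (S.J2_le hs), add_zero, map_mul, map_mul, S.eps_e,
      one_mul, mul_one, smul_eq_mul, mul_one] at this
    exact hx (by rw [← this, ← hws, add_sub_cancel_left]; exact hs)
  obtain ⟨φ, hφ, hφW⟩ := Submodule.exists_dual_map_eq_bot_of_notMem hW inferInstance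
  have h0 : ∀ w ∈ W, φ w = 0 := fun w hw => by
    have : φ w ∈ W.map φ := Submodule.mem_map_of_mem hw
    rw [hφW] at this
    exact (Submodule.mem_bot K).mp this
  have hφe : φ S.e = 0 := h0 _ (Submodule.mem_sup_left (Submodule.mem_span_singleton_self _))
  have hφJ : ∀ w ∈ S.J2, φ w = 0 := fun w hw => h0 w (Submodule.mem_sup_right hw)
  let F : A →ₗ[K] K := φ.comp ((LinearMap.mulLeft K S.e).comp (LinearMap.mulRight K S.e))
  have hF : ∀ y, F y = φ (S.e * y * S.e) := fun y => by simp [F, mul_assoc]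
  refine hφ ((hF x).symm.trans (S.kill (F := F) (fun p q => ?_) (fun y => ?_) S.J2_le
    (fun a w hw => S.J2_r a hw) hne (fun w hw => ?_) ?_ ?_ x))
  · have key : ∀ p q, S.e * (p * q) * S.e =
        S.e * p * S.e * (S.e * q * S.e) + S.e * p * S.f * (S.f * q * S.e) := fun p q => by
      rw [S.split _ p q S.eb, add_mul]
      congr 1
      · rw [mul_assoc (S.e * p * S.e) q S.e, ← mul_assoc (S.e * p * S.e) (S.e * q),
          ← mul_assoc (S.e * p * S.e) S.e q, mul_assoc (S.e * p) S.e S.e, S.ee]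
        simp only [mul_assoc]
      · simp only [mul_assoc]
        rw [← mul_assoc S.f S.f, S.ff]
    rw [hF, hF, key, key, map_add, map_add, hφJ _ (S.mem_J2 (S.hef p) (S.hfe q)),
      hφJ _ (S.mem_J2 (S.hef q) (S.hfe p)), add_zero, add_zero, ← sub_eq_zero, ← map_sub]
    refine hφJ _ (corner_comm (c := S.eps (S.e * p * S.e)) (c' := S.eps (S.e * q * S.e))
      (fun a ha c hc => S.mem_J2 ha hc) S.ee ?_ ?_ ?_ ?_)
    · simp only [← mul_assoc, S.ee]; rw [mul_assoc _ S.e S.e, S.ee]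
    · simp only [← mul_assoc, S.ee]; rw [mul_assoc _ S.e S.e, S.ee]
    · exact S.he _
    · exact S.he _
  · rw [hF, hF, ← mul_assoc S.e S.b, S.eb]
  · rw [hF]; exact hφJ _ (S.J2_r _ (S.J2_l _ hw))
  · rw [hF, S.ee, S.ee, hφe]
  · rw [hF, S.eg, zero_mul, map_zero]

theorem loop_g (hne : S.J2 ≠ ⊥) {x : A} :
    ∃ c : K, S.g * x * S.g - c • S.g ∈ S.J2 := by
  by_contra hx
  push Not at hx
  set W : Submodule K A := Submodule.span K {S.g} ⊔ S.J2
  by_cases hW : S.g * x * S.g ∈ W
  · obtain ⟨w, hw, s, hs, hws⟩ := Submodule.mem_sup.mp hW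
    obtain ⟨c, rfl⟩ := Submodule.mem_span_singleton.mp hw
    exact hx c (by rw [← hws, add_sub_cancel_left]; exact hs)
  obtain ⟨φ, hφ, hφW⟩ := Submodule.exists_dual_map_eq_bot_of_notMem hW inferInstance
  have h0 : ∀ w ∈ W, φ w = 0 := fun w hw => by
    have : φ w ∈ W.map φ := Submodule.mem_map_of_mem hw
    rw [hφW] at this
    exact (Submodule.mem_bot K).mp this
  have hφJ : ∀ w ∈ S.J2, φ w = 0 := fun w hw => h0 w (Submodule.mem_sup_right hw)
  have hsq : ∀ a ∈ S.J, ∀ c ∈ S.J, a * c ∈ S.J2 := fun a ha c hc => S.mem_J2 ha hc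
  have hfix : ∀ z, S.g * z * S.g = z → φ (S.G z) = φ z := fun z hz => by
    rw [← sub_eq_zero, ← map_sub]; exact hφJ _ (S.G_fix hsq S.hg hz)
  have hcross : ∀ p q : A, φ (S.G (p * S.e * q)) = 0 := fun p q => hφJ _ <| by
    rw [S.G_apply]
    refine Submodule.sum_mem _ fun i _ => ?_
    have e1 : S.v i * (p * S.e * q) * S.u i =
        S.v i * (S.f * p * S.e) * (S.e * q * S.f * S.u i) := by
      simp only [mul_assoc, S.fu, ← mul_assoc (S.v i) S.f, S.vf, ← mul_assoc S.e S.e, S.ee]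
    rw [e1]
    exact S.mem_J2 (S.Jl _ _ (S.hfe p)) (S.Jr _ _ (S.hef q))
  refine hφ ?_
  rw [← hfix (S.g * x * S.g) (by simp only [← mul_assoc, S.gg]; rw [mul_assoc _ S.g S.g, S.gg])]
  refine S.kill (F := φ.comp S.G) (fun p q => ?_) (fun y => ?_) S.J2_le
    (fun a w hw => S.J2_r a hw) hne (fun w hw => ?_) ?_ ?_ (S.g * x * S.g)
  · show φ (S.G (p * q)) = φ (S.G (q * p))
    rw [S.G_mul p q, S.G_mul q p, map_add, map_add, hcross, hcross, zero_add, zero_add,
      ← sub_eq_zero, ← map_sub]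
    exact hφJ _ (S.G_symm hsq S.hg p q)
  · exact congrArg φ (S.G_b y)
  · exact hφJ _ (S.G_mem S.J2 (fun a z => S.J2_l a) (fun a z => S.J2_r a) hw)
  · show φ (S.G S.e) = 0
    rw [← S.ee, S.G_e_left, map_zero]
  · show φ (S.G S.g) = 0
    rw [hfix S.g (by rw [S.gg, S.gg])]
    exact h0 _ (Submodule.mem_sup_left (Submodule.mem_span_singleton_self _))

theorem G_prod_J3 {a : A} {s : A} (ha : a ∈ S.J) (hs : s ∈ S.J2) (c : A) :
    S.G (c * s * a) ∈ S.J3 :=
  S.G_mem S.J3 (fun p z => S.J3_l p) (fun p z => S.J3_r p) (S.mem_J3 (S.J2_l c hs) ha)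

/-- With a non-zero cube, the second layer of the corner of `g` vanishes. -/
theorem layer_two (h3 : S.J3 ≠ ⊥) {z : A} (hz : z ∈ S.J2) (hgz : S.g * z * S.g = z) :
    z ∈ S.J3 := by
  have h2 : S.J2 ≠ ⊥ := fun h => h3 (eq_bot_iff.mpr (h ▸ S.J3_le))
  by_contra hx
  set W : Submodule K A := Submodule.span K {S.g} ⊔ S.J3
  by_cases hW : z ∈ W
  · obtain ⟨w, hw, s, hs, hws⟩ := Submodule.mem_sup.mp hW
    obtain ⟨c, rfl⟩ := Submodule.mem_span_singleton.mp hw
    have := congrArg S.chi hws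
    rw [map_add, map_smul, S.chi_g, S.chi_J _ (S.J2_le (S.J3_le hs)), add_zero,
      S.chi_J _ (S.J2_le hz), smul_eq_mul, mul_one] at this
    exact hx (by rw [← hws, this, zero_smul, zero_add]; exact hs)
  obtain ⟨φ, hφ, hφW⟩ := Submodule.exists_dual_map_eq_bot_of_notMem hW inferInstance
  have h0 : ∀ w ∈ W, φ w = 0 := fun w hw => by
    have : φ w ∈ W.map φ := Submodule.mem_map_of_mem hw
    rw [hφW] at this
    exact (Submodule.mem_bot K).mp this
  have hφJ : ∀ w ∈ S.J3, φ w = 0 := fun w hw => h0 w (Submodule.mem_sup_right hw)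
  have hsq : ∀ a ∈ S.J2, ∀ c ∈ S.J2, a * c ∈ S.J3 := fun a ha c hc =>
    S.mem_J3 ha (S.J2_le hc)
  have hg2 : ∀ y : A, ∃ c : K, S.g * y * S.g - c • S.g ∈ S.J2 := fun y => S.loop_g h2
  have hsym : ∀ p q : A, φ (S.G (p * S.f * q)) = φ (S.G (q * S.f * p)) := fun p q => by
    rw [← sub_eq_zero, ← map_sub]; exact hφJ _ (S.G_symm hsq hg2 p q)
  let Γ : A →ₗ[K] A →ₗ[K] K := LinearMap.mk₂ K (fun p q => φ (S.G (q * S.e * p)))
    (fun p p' q => by simp only [mul_add, map_add]) (fun c p q => by simp only [mul_smul_comm, map_smul])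
    (fun p q q' => by simp only [add_mul, map_add]) (fun c p q => by simp only [smul_mul_assoc, map_smul])
  have hΓ : ∀ p q, Γ p q = φ (S.G (q * S.e * p)) := fun p q => rfl
  have hmid : ∀ w p q : A, φ (S.G (w * S.e * q * S.e * p)) =
      S.eps q * φ (S.G (w * S.e * p)) := fun w p q => by
    have hG : ∀ r, S.G (w * r) = S.G (S.f * w * r) := fun r => by rw [mul_assoc, S.G_f]
    obtain hs := S.loop_e h2 (x := q)
    set s := S.e * q * S.e - S.eps q • S.e with hsdef
    have e1 : w * S.e * q * S.e * p = S.eps q • (w * S.e * p) + w * s * p := by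
      rw [hsdef, mul_sub, sub_mul, mul_smul_comm, smul_mul_assoc]
      simp only [mul_assoc]
      abel
    have hse : S.e * s = s := by
      rw [hsdef, mul_sub, mul_smul_comm, S.ee, ← mul_assoc, ← mul_assoc, S.ee]
    have hz : φ (S.G (w * s * p)) = 0 := by
      rw [← hse, mul_assoc w, hG]
      refine hφJ _ (S.G_mem S.J3 (fun a y => S.J3_l a) (fun a y => S.J3_r a) ?_)
      have e2 : S.f * w * (S.e * s * p) = S.f * w * S.e * (s * p) := by simp only [mul_assoc]
      rw [e2]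
      exact S.mem_J3' (S.hfe w) (S.J2_r _ hs)
    rw [e1, map_add, map_add, hz, add_zero, map_smul, map_smul, smul_eq_mul]
  obtain ⟨T, hT⟩ := S.cobound Γ fun p q r => by
    rw [hΓ, hΓ, hΓ, hΓ]
    have l1 : φ (S.G (q * r * S.e * p)) =
        φ (S.G (q * S.e * r * S.e * p)) + φ (S.G (q * S.f * (r * S.e * p))) := by
      rw [show q * r * S.e * p = q * (r * S.e * p) from by simp only [mul_assoc], S.G_mul, map_add]
      simp only [mul_assoc]
    have r1 : φ (S.G (r * S.e * (p * q))) =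
        φ (S.G (r * S.e * p * S.e * q)) + φ (S.G (r * S.e * p * S.f * q)) := by
      rw [show r * S.e * (p * q) = r * S.e * p * q from by simp only [mul_assoc], S.G_mul, map_add]
    rw [l1, r1, hmid, hmid, hsym q (r * S.e * p)]
    ring
  have hTe : T S.e = 0 := by
    have h := hT S.e S.e
    rw [hΓ, mul_assoc S.e S.e S.e, S.G_e_left, S.ee, S.eps_e, one_mul, mul_one, map_zero,
      add_zero] at h
    linear_combination -h
  have hTJ3 : ∀ w ∈ S.J3, T w = 0 := fun w hw => Submodule.mul_induction_on hw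
    (fun p hp q hq => by
      rw [hT, S.eps_J _ hq, S.eps_J _ (S.J2_le hp), hΓ,
        hφJ _ (S.G_mem S.J3 (fun a y => S.J3_l a) (fun a y => S.J3_r a)
          (S.mem_J3' (S.Jr _ _ hq) hp))]
      ring)
    fun p q hp hq => by rw [map_add, hp, hq, add_zero]
  let F : A →ₗ[K] K := φ.comp S.G +
    T.comp ((LinearMap.mulLeft K S.e).comp (LinearMap.mulRight K S.e))
  have hF : ∀ y, F y = φ (S.G y) + T (S.e * y * S.e) := fun y => by simp [F, mul_assoc]
  have hφg : φ S.g = 0 := h0 _ (Submodule.mem_sup_left (Submodule.mem_span_singleton_self _))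
  have hfix : ∀ y, S.g * y * S.g = y → φ (S.G y) = φ y := fun y hy => by
    rw [← sub_eq_zero, ← map_sub]; exact hφJ _ (S.G_fix hsq hg2 hy)
  have hez : S.e * z = 0 := by
    rw [← hgz, ← mul_assoc, ← mul_assoc, S.eg, zero_mul, zero_mul]
  refine hφ ?_
  rw [← hfix z hgz]
  have hk := S.kill (F := F) (fun p q => ?_) (fun y => ?_) (S.J3_le.trans S.J2_le)
    (fun a w hw => S.J3_r a hw) h3 (fun w hw => ?_) ?_ ?_ z
  · rwa [hF, hez, zero_mul, map_zero, add_zero] at hk
  · rw [hF, hF, S.G_mul p q, S.G_mul q p, map_add, map_add]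
    have key : ∀ p q, T (S.e * (p * q) * S.e) =
        S.eps p * T (S.e * q * S.e) + T (S.e * p * S.e) * S.eps q + φ (S.G (q * S.e * p)) := by
      intro p q
      rw [S.split _ p q S.eb, add_mul, map_add]
      have e1 : S.e * p * S.e * q * S.e = S.e * p * S.e * (S.e * q * S.e) := by
        simp only [← mul_assoc]; rw [mul_assoc (S.e * p) S.e S.e, S.ee]
      have e2 : S.e * p * S.f * q * S.e = S.e * p * S.f * (S.f * q * S.e) := by
        simp only [← mul_assoc]; rw [mul_assoc (S.e * p) S.f S.f, S.ff]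
      have e3 : S.G (S.e * q * S.e * S.e * (S.e * p * S.e)) = 0 := by
        simp only [mul_assoc]; exact S.G_e_left _
      have e4 : S.G (S.f * q * S.e * S.e * (S.e * p * S.f)) = S.G (q * S.e * p) := by
        simp only [S.G_apply]
        refine Finset.sum_congr rfl fun i _ => ?_
        simp only [mul_assoc, S.fu, ← mul_assoc (S.v i) S.f, S.vf, ← mul_assoc S.e S.e, S.ee]
      rw [e1, e2, hT (S.e * p * S.e) (S.e * q * S.e), hT (S.e * p * S.f) (S.f * q * S.e), hΓ, hΓ, e3,
        e4, map_zero]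
      simp only [map_mul, S.eps_e, S.eps_f, zero_mul, one_mul, mul_one, mul_zero]
      ring
    rw [key, key, hsym p q]
    ring
  · rw [hF, hF, S.G_b, ← mul_assoc S.e S.b, S.eb]
  · rw [hF, hφJ _ (S.G_mem S.J3 (fun a y => S.J3_l a) (fun a y => S.J3_r a) hw),
      hTJ3 _ (S.J3_r _ (S.J3_l _ hw)), add_zero]
  · rw [hF, S.ee, S.ee, hTe, ← S.ee, S.G_e_left, map_zero, add_zero]
  · rw [hF, S.eg, zero_mul, map_zero, add_zero, hfix S.g (by rw [S.gg, S.gg]), hφg]

theorem pow_two_eq : S.J ^ 2 = S.J2 := pow_two S.J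

theorem pow_three_eq : S.J ^ 3 = S.J3 := by rw [pow_succ, pow_two_eq]; rfl

/-- Two idempotents suffice: with a non-zero cube `f` would be central. -/
theorem cube_eq_bot : S.J3 = ⊥ := by
  by_contra h3
  have h2 : S.J2 ≠ ⊥ := fun h => h3 (eq_bot_iff.mpr (h ▸ S.J3_le))
  have expand : ∀ x, S.f * x * S.f = ∑ i, ∑ j, S.u i * (S.v i * x * S.u j) * S.v j := fun x => by
    rw [← S.huv, Finset.sum_mul, Finset.sum_mul]
    refine Finset.sum_congr rfl fun i _ => ?_
    rw [Finset.mul_sum]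
    exact Finset.sum_congr rfl fun j _ => by simp only [mul_assoc]
  have hff3 : ∀ x ∈ S.J2, S.f * x * S.f ∈ S.J3 := fun x hx => by
    rw [expand]
    refine Submodule.sum_mem _ fun i _ => Submodule.sum_mem _ fun j _ => ?_
    exact S.J3_r _ (S.J3_l _ (S.layer_two h3 (S.J2_r _ (S.J2_l _ hx)) (S.corner_g i j x)))
  have hff2 : ∀ x ∈ S.J, S.f * x * S.f ∈ S.J2 := fun x hx => by
    rw [expand]
    refine Submodule.sum_mem _ fun i _ => Submodule.sum_mem _ fun j _ => ?_
    refine S.J2_r _ (S.J2_l _ ?_)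
    obtain ⟨c, hc⟩ := S.loop_g h2 (x := S.v i * x * S.u j)
    rw [S.corner_g i j x] at hc
    have h := congrArg S.chi (sub_add_cancel (S.v i * x * S.u j) (c • S.g))
    rw [map_add, S.chi_J _ (S.J2_le hc), map_smul, S.chi_g,
      S.chi_J _ (S.Jr _ _ (S.Jl _ _ hx)), zero_add, smul_eq_mul, mul_one] at h
    rwa [h, zero_smul, sub_zero] at hc
  have hee2 : ∀ x ∈ S.J, S.e * x * S.e ∈ S.J2 := fun x hx => by
    have h := S.loop_e h2 (x := x)
    rwa [S.eps_J _ hx, zero_smul, sub_zero] at h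
  have hfe3 : ∀ x ∈ S.J2, S.f * x * S.e ∈ S.J3 := fun x hx => Submodule.mul_induction_on hx
    (fun p hp q hq => by
      rw [S.split _ p q S.fb, add_mul]
      refine add_mem ?_ ?_
      · have e1 : S.f * p * S.e * q * S.e = S.f * p * S.e * (S.e * q * S.e) := by
          simp only [← mul_assoc]; rw [mul_assoc (S.f * p) S.e S.e, S.ee]
        rw [e1]
        exact S.mem_J3' (S.Jr _ _ (S.Jl _ _ hp)) (hee2 q hq)
      · rw [mul_assoc _ q]
        exact S.mem_J3 (hff2 p hp) (S.Jr _ _ hq))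
    fun p q hp hq => by rw [mul_add, add_mul]; exact add_mem hp hq
  obtain ⟨N, hN⟩ := S.Jnil
  have hn : ∀ n, ∀ x ∈ S.J ^ (n + 2), S.f * x * S.f ∈ S.J ^ (n + 3) := by
    intro n x hx
    rw [show n + 2 = 2 + n from add_comm n 2, pow_add, pow_two_eq] at hx
    rw [show n + 3 = 3 + n from add_comm n 3, pow_add, pow_three_eq]
    refine Submodule.mul_induction_on hx (fun p hp q hq => ?_)
      fun p q hp hq => by rw [mul_add, add_mul]; exact add_mem hp hq
    rcases Nat.eq_zero_or_pos n with rfl | hpos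
    · rw [pow_zero] at hq ⊢
      rw [mul_one]
      exact hff3 _ (S.J2_r q hp)
    obtain ⟨n', rfl⟩ := Nat.exists_eq_succ_of_ne_zero hpos.ne'
    have hqr : q * S.f ∈ S.J ^ (n' + 1) := by
      rw [pow_succ] at hq ⊢
      exact Submodule.mul_induction_on hq
        (fun a ha c hc => by rw [mul_assoc]; exact Submodule.mul_mem_mul ha (S.Jr _ _ hc))
        fun a c ha hc => by rw [add_mul]; exact add_mem ha hc
    rw [S.split _ p q S.fb, add_mul, mul_assoc (S.f * p * S.e), mul_assoc (S.f * p * S.f)]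
    exact add_mem (Submodule.mul_mem_mul (hfe3 p hp) hqr) (Submodule.mul_mem_mul (hff3 p hp) hqr)
  have hall : ∀ x ∈ S.J2, ∀ k, S.f * x * S.f ∈ S.J ^ (k + 2) := fun x hx k => by
    induction k with
    | zero => rw [pow_two_eq]; exact S.J2_r _ (S.J2_l _ hx)
    | succ k ih =>
      have h := hn k _ ih
      rwa [← mul_assoc S.f (S.f * x) S.f, ← mul_assoc S.f S.f x, S.ff,
        mul_assoc (S.f * x) S.f S.f, S.ff] at h
  have hz2 : ∀ x ∈ S.J2, S.f * x * S.f = 0 := fun x hx => by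
    have h := hall x hx N
    rw [pow_add, hN, Submodule.bot_mul] at h
    exact (Submodule.mem_bot K).mp h
  have hz : ∀ x ∈ S.J, S.f * x * S.f = 0 := fun x hx => by
    have h := hz2 _ (hff2 x hx)
    rwa [← mul_assoc S.f (S.f * x) S.f, ← mul_assoc S.f S.f x, S.ff,
      mul_assoc (S.f * x) S.f S.f, S.ff] at h
  refine S.not_split (fun x => S.tau_nd _ fun y => ?_) (fun x => S.tau_nd _ fun y => ?_)
  · have hw := hz _ (S.Jl y _ (S.hef x))
    have e1 : S.e * x * S.f * y = S.e * x * S.f * (S.f * y) := by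
      rw [← mul_assoc (S.e * x * S.f) S.f y, mul_assoc (S.e * x) S.f S.f, S.ff]
    rw [e1, S.tau_tr, mul_assoc S.f y,
      show S.f * (y * (S.e * x * S.f)) = S.f * (y * (S.e * x * S.f)) * S.f by
        simp only [mul_assoc, S.ff], hw, map_zero]
  · have hw := hz _ (S.Jr y _ (S.hfe x))
    have e1 : S.f * x * S.e * y = S.f * (S.f * x * S.e * y) := by
      simp only [← mul_assoc, S.ff]
    rw [e1, S.tau_tr, show S.f * x * S.e * y * S.f = S.f * (S.f * x * S.e * y) * S.f by rw [← e1],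
      hw, map_zero]

end Setting

end CfsgLib.KThree
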