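import Cfsg.Agent.Lib.Blocks.IdempotentLift
import Cfsg.Agent.Lib.Blocks.EqualDegree.CenterDim

/-!
# The dimension of a projective right ideal is divisible by the `p`-part of the group order
-/

set_option autoImplicit false
set_option linter.unusedSectionVars false

namespace CfsgLib.KThree

open Cfsg CfsgLib.Blocks CfsgLib.GrpRing

variable {p : ℕ} {M : Ideal AlgInt} [M.IsPrime] {G : Type*} [Group G] [Fintype G]

/-- coefficients read in the complex numbers -/
noncomputable def upC : OG M G →+* MonoidAlgebra ℂ G :=
  MonoidAlgebra.mapRingHom G (locRing M).subtype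

theorem coeff_upC (a : OG M G) (g : G) : (upC a).coeff g = (a.coeff g : ℂ) :=
  MonoidAlgebra.coeff_mapRingHom _ _ _

/-- rank of a right multiplication by an idempotent -/
theorem finrank_range_mulRight {E : MonoidAlgebra ℂ G} (hE : E * E = E) :
    (Module.finrank ℂ (LinearMap.mulRight ℂ E).range : ℂ) = Nat.card G * E.coeff 1 := by
  classical
  have hproj : LinearMap.IsProj (LinearMap.mulRight ℂ E).range (LinearMap.mulRight ℂ E) :=
    ⟨fun x => LinearMap.mem_range_self _ x, fun x ⟨y, hy⟩ => by
      rw [← hy]; simp [mul_assoc, hE]⟩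
  rw [← hproj.trace, LinearMap.trace_eq_matrix_trace ℂ (MonoidAlgebra.basis G ℂ), Matrix.trace]
  have : ∀ g : G, LinearMap.toMatrix (MonoidAlgebra.basis G ℂ) (MonoidAlgebra.basis G ℂ)
      (LinearMap.mulRight ℂ E) g g = E.coeff 1 := fun g => by
    rw [LinearMap.toMatrix_apply, LinearMap.mulRight_apply]
    show (MonoidAlgebra.single g 1 * E).coeff g = _
    rw [MonoidAlgebra.coeff_single_mul_apply]
    simp
  simp only [Matrix.diag, this, Finset.sum_const, Finset.card_univ, nsmul_eq_mul,
    Nat.card_eq_fintype_card]

/-- the rank of the reduction is at most the complex rank -/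
theorem finrank_mulRight_le (E : OG M G) :
    Module.finrank (ResField M) (LinearMap.mulRight (ResField M) (red E)).range ≤
      Module.finrank ℂ (LinearMap.mulRight ℂ (upC E)).range := by
  classical
  let b := Module.finBasis (ResField M) (LinearMap.mulRight (ResField M) (red E)).range
  choose x hx using fun i => (b i).2
  choose X hXmem hX using fun i => exists_lift_fix (M := M) (S := (∅ : Set G))
    (a := x i) (mem_fixAlg.mpr fun s hs => absurd hs (Set.notMem_empty s))
  set w := fun i g => ((X i * E).coeff g : ℂ) with hw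
  have hwr : ∀ i g, res M (w i g) = ((b i : _) : KG M G).coeff g := fun i g => by
    rw [hw, res_coe, ← coeff_red, map_mul, hX, ← hx i]
    rfl
  have hli : LinearIndependent ℂ w := by
    refine EqualDegree.indep_lift_loc w (fun i g => ((X i * E).coeff g).2) ?_
    have : LinearIndependent (ResField M) fun i => ((b i : _) : KG M G) :=
      b.linearIndependent.map' (Submodule.subtype _) (Submodule.ker_subtype _)
    rw [Fintype.linearIndependent_iff] at this ⊢
    refine fun c hc => this c (MonoidAlgebra.ext (Finsupp.ext fun g => ?_))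
    have h := congrFun hc g
    simp only [Finset.sum_apply, Pi.smul_apply, smul_eq_mul, Pi.zero_apply, hwr] at h
    simpa [MonoidAlgebra.coeff_sum] using h
  have hC : LinearIndependent ℂ fun i => (⟨upC (X i) * upC E, upC (X i), rfl⟩ :
      (LinearMap.mulRight ℂ (upC E)).range) := by
    rw [Fintype.linearIndependent_iff] at hli ⊢
    refine fun c hc => hli c (funext fun g => ?_)
    have h := congrArg (fun z => (Subtype.val z).coeff g) hc
    simp only [AddSubmonoidClass.coe_finsetSum, SetLike.val_smul, MonoidAlgebra.coeff_sum,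
      Finsupp.finsetSum_apply, MonoidAlgebra.coeff_smul, Finsupp.smul_apply, smul_eq_mul,
      ← map_mul, coeff_upC, ZeroMemClass.coe_zero] at h
    simpa [Finset.sum_apply, hw] using h
  simpa using hC.fintype_card_le_finrank

/-- The `p`-part of the group order divides the dimension of `k[G] e`. -/
theorem pow_dvd_finrank_idem (hM : IsPModular p M) {e : KG M G} (he : IsIdempotentElem e) :
    p ^ (Nat.card G).factorization p ∣
      Module.finrank (ResField M) (LinearMap.range (LinearMap.mulRight (ResField M) e)) := by
  classical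
  obtain ⟨E, -, hE, rfl⟩ := exists_lift_idempotent' (S := (∅ : Set G)) he
    (mem_fixAlg.mpr fun s hs => absurd hs (Set.notMem_empty s))
  set rK := fun F : OG M G =>
    Module.finrank (ResField M) (LinearMap.mulRight (ResField M) (red F)).range with hrK
  set rC := fun F : OG M G => Module.finrank ℂ (LinearMap.mulRight ℂ (upC F)).range with hrC
  have hcr : ∀ F : OG M G, IsIdempotentElem F →
      (rC F : ℂ) = Nat.card G * (F.coeff 1 : ℂ) := fun F hF => by
    rw [hrC, finrank_range_mulRight (by rw [← map_mul, hF.eq]), coeff_upC]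
  have htot : rC E + rC (1 - E) = Nat.card G := by
    refine Nat.cast_injective (R := ℂ) ?_
    rw [Nat.cast_add, hcr E hE, hcr _ hE.one_sub, ← mul_add]
    simp [MonoidAlgebra.one_def]
  have hK : Nat.card G ≤ rK E + rK (1 - E) := by
    have hle : (⊤ : Submodule (ResField M) (KG M G)) ≤
        (LinearMap.mulRight (ResField M) (red E)).range ⊔
          (LinearMap.mulRight (ResField M) (red (1 - E))).range := fun a _ => by
      rw [show a = a * red E + a * red (1 - E) by
        rw [map_sub, map_one, mul_sub, mul_one, add_sub_cancel]]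
      exact Submodule.add_mem_sup ⟨a, rfl⟩ ⟨a, rfl⟩
    have h1 := Submodule.finrank_mono hle
    rw [finrank_top, Module.finrank_eq_card_basis (MonoidAlgebra.basis G (ResField M)),
      ← Nat.card_eq_fintype_card] at h1
    exact h1.trans (Submodule.finrank_add_le_finrank_add_finrank _ _)
  have h1 : rK E ≤ rC E := finrank_mulRight_le E
  have h2 : rK (1 - E) ≤ rC (1 - E) := finrank_mulRight_le (1 - E)
  have heq : rK E = rC E := by omega
  show _ ∣ rK E
  rw [heq]
  refine pow_dvd_of_memLocalRing hM ?_
  set a := (Nat.card G).factorization p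
  have hn : p ^ a * (Nat.card G / p ^ a) = Nat.card G := Nat.ordProj_mul_ordCompl_eq_self _ p
  have hp0 : ((p : ℂ) ^ a) ≠ 0 := pow_ne_zero _ (Nat.cast_ne_zero.mpr hM.1.ne_zero)
  have hval : (rC E : ℂ) / (p : ℂ) ^ a = ((Nat.card G / p ^ a : ℕ) : ℂ) * (E.coeff 1 : ℂ) := by
    rw [hcr E hE, div_eq_iff hp0]
    conv_lhs => rw [← hn]
    push_cast
    ring
  rw [hval]
  exact memLocalRing_mul (memLocalRing_natCast _) (E.coeff 1).2

end CfsgLib.KThree
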