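import Cfsg.Agent.S4646
import Cfsg.Agent.S4691
import Cfsg.Agent.Lib.Blocks.RankDrop.Basic
import Cfsg.Agent.Lib.Blocks.PrincipalQuot
import Cfsg.Agent.Lib.Blocks.PrincipalColumn
import Cfsg.Agent.Lib.Blocks.Osima
import Cfsg.Agent.Lib.Char.Galois

/-!
# A principal block with three characters

Either a Sylow subgroup has order three, or the rank is two: all nontrivial `p`-elements are then
conjugate, their centralisers have normal `p`-complements, and the column at a central element of
a Sylow subgroup is rational.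
-/

set_option autoImplicit false
set_option linter.unusedSectionVars false
set_option linter.style.haveILetI false

namespace CfsgLib.KThree

open Cfsg CfsgLib CfsgLib.Blocks CfsgLib.Blocks.RankSum CfsgLib.Blocks.RankDrop
open scoped ComplexConjugate CfsgLib.Char

universe u

/-- One plus two squares of powers of a prime is that prime to some power only at three. -/
theorem eq_three_of_sq_add_sq {p e i j : ℕ} (hp : p.Prime)
    (h : 1 + (p ^ i) ^ 2 + (p ^ j) ^ 2 = p ^ e) : p ^ e = 3 := by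
  rcases Nat.eq_zero_or_pos e with rfl | he
  · have h1 : 0 < (p ^ i) ^ 2 := pow_pos (pow_pos hp.pos _) _
    rw [pow_zero] at h
    omega
  have hpe : p ∣ p ^ e := dvd_pow_self p he.ne'
  have key : ∀ k : ℕ, 0 < k → (p ^ k) ^ 2 + 2 ≠ p ^ e := fun k hk hcon => by
    have h1 : p ∣ (p ^ k) ^ 2 := dvd_pow (dvd_pow_self p hk.ne') two_ne_zero
    have h2 : p ∣ 2 := (Nat.dvd_add_right h1).mp (hcon ▸ hpe)
    obtain rfl := (Nat.prime_dvd_prime_iff_eq hp Nat.prime_two).mp h2
    have h4 : 4 ∣ (2 ^ k) ^ 2 := by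
      rw [← pow_mul]
      exact pow_dvd_pow 2 (show 2 ≤ k * 2 by omega)
    obtain ⟨c, hc⟩ := h4
    rcases Nat.lt_or_ge e 2 with he2 | he2
    · obtain rfl : e = 1 := by omega
      have : 0 < (2 ^ k) ^ 2 := pow_pos (pow_pos two_pos _) _
      omega
    · obtain ⟨d, hd⟩ : 4 ∣ 2 ^ e := pow_dvd_pow 2 he2
      omega
  rcases Nat.eq_zero_or_pos i with rfl | hi
  · rcases Nat.eq_zero_or_pos j with rfl | hj
    · simp at h
      omega
    · refine absurd ?_ (key j hj)
      rw [← h, pow_zero]; ring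
  · rcases Nat.eq_zero_or_pos j with rfl | hj
    · refine absurd ?_ (key i hi)
      rw [← h, pow_zero]; ring
    · exfalso
      have hd : p ∣ (p ^ i) ^ 2 + (p ^ j) ^ 2 :=
        dvd_add (dvd_pow (dvd_pow_self p hi.ne') two_ne_zero)
          (dvd_pow (dvd_pow_self p hj.ne') two_ne_zero)
      rw [← h, add_assoc] at hpe
      exact hp.not_dvd_one ((Nat.dvd_add_left hd).mp hpe)

variable {G : Type u} [Group G] [Fintype G] {p : ℕ} [Fact p.Prime] {M : Ideal AlgInt}

/-- The inducing blocks of a centraliser. -/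
theorem inducingInto_principal (hM : IsPModular p M) {v : G} (hv : ∃ k : ℕ, orderOf v = p ^ k) :
    inducingInto M (Subgroup.centralizer ({v} : Set G)) (principalBlock M G) =
      principalBlock M (Subgroup.centralizer ({v} : Set G)) := by
  classical
  have := isPrime_of_isPModular hM
  have hB := isPBlock_principalBlock (M := M) (G := G)
  ext ξ
  constructor
  · rintro ⟨B, hBU, hind⟩
    obtain ⟨χ, hχ⟩ := IsPBlock.nonempty hind.2.1
    rw [IsPBlock.eq_of_mem_of_mem hind.2.1 hB hχ (hBU hχ),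
      isInducedBlock_centralizer_principal_iff hM hv] at hind
    exact hind ▸ mem_blockOf_self ξ
  · intro hξ
    refine ⟨_, subset_rfl, (isInducedBlock_centralizer_principal_iff hM hv _).mpr ?_⟩
    exact (IsPBlock.eq_blockOf isPBlock_principalBlock hξ).symm

theorem trivIrr_mem_principalBlock (hM : IsPModular p M) :
    trivIrr G ∈ principalBlock M G := by
  have := isPrime_of_isPModular hM
  rw [principalBlock_eq]
  exact mem_blockOf_self _

/-- Three characters: the trivial one and two others. -/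
theorem exists_pair (hM : IsPModular p M) (hk : Nat.card (principalBlock M G) = 3)
    [DecidablePred (· ∈ principalBlock M G)] :
    ∃ χ₁ χ₂ : IrrCharacter G, χ₁ ∈ principalBlock M G ∧ χ₂ ∈ principalBlock M G ∧
      χ₁ ≠ χ₂ ∧ trivIrr G ≠ χ₁ ∧ trivIrr G ≠ χ₂ ∧
      ∀ F : IrrCharacter G → ℂ, ∑ χ : IrrCharacter G with χ ∈ principalBlock M G, F χ =
        F (trivIrr G) + (F χ₁ + F χ₂) := by
  classical
  set S : Finset (IrrCharacter G) :=
    Finset.univ.filter (fun χ => χ ∈ principalBlock M G) with hS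
  have hcard : S.card = 3 := by
    rw [← hk, Nat.card_eq_fintype_card, Fintype.card_subtype]
  have ht : trivIrr G ∈ S :=
    Finset.mem_filter.mpr ⟨Finset.mem_univ _, trivIrr_mem_principalBlock hM⟩
  obtain ⟨χ₁, χ₂, hne, h12⟩ := Finset.card_eq_two.mp
    (show (S.erase (trivIrr G)).card = 2 by rw [Finset.card_erase_of_mem ht, hcard])
  have hm1 : χ₁ ∈ S.erase (trivIrr G) := h12 ▸ Finset.mem_insert_self _ _
  have hm2 : χ₂ ∈ S.erase (trivIrr G) :=
    h12 ▸ Finset.mem_insert_of_mem (Finset.mem_singleton_self _)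
  refine ⟨χ₁, χ₂, (Finset.mem_filter.mp (Finset.mem_of_mem_erase hm1)).2,
    (Finset.mem_filter.mp (Finset.mem_of_mem_erase hm2)).2, hne,
    (Finset.ne_of_mem_erase hm1).symm, (Finset.ne_of_mem_erase hm2).symm, fun F => ?_⟩
  rw [← Finset.add_sum_erase S F ht, h12, Finset.sum_pair hne]

/-- The group is no `p'`-group. -/
theorem dvd_card_of_three (hM : IsPModular p M) (hk : Nat.card (principalBlock M G) = 3) :
    p ∣ Nat.card G := by
  classical
  by_contra hnd
  obtain ⟨χ₁, -, h1, -, -, ht1, -, -⟩ := exists_pair hM hk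
  have hc := trivial_on_of_mem_principalBlock hM (⊤ : Subgroup G)
    (by rwa [Subgroup.card_top]) h1
  have h11 := Char.classInner_irr_self χ₁.2
  obtain ⟨n, hn0, hn⟩ := CfsgLib.Char.exists_nat_degree_irr χ₁.2
  have hval : ∀ g : G, (χ₁ : G → ℂ) g = (n : ℂ) := fun g => by
    rw [hc g (Subgroup.mem_top g), hn]
  have hn1 : n = 1 := by
    have hG : (Nat.card G : ℂ) ≠ 0 := Nat.cast_ne_zero.mpr Nat.card_pos.ne'
    simp only [classInner, hval, Complex.conj_natCast, Finset.sum_const, Finset.card_univ,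
      nsmul_eq_mul, ← Nat.card_eq_fintype_card] at h11
    rw [inv_mul_cancel_left₀ hG] at h11
    exact Nat.eq_one_of_mul_eq_one_right (by exact_mod_cast h11 : n * n = 1)
  refine ht1 (Subtype.ext ?_).symm
  funext g
  rw [hval g, hn1, Nat.cast_one]
  rfl

/-- A normal `p`-complement: the Sylow subgroup has order three. -/
theorem card_sylow_of_npc (hM : IsPModular p M) (hk : Nat.card (principalBlock M G) = 3)
    (h : HasNormalPComplement p G) (P : Sylow p G) : Nat.card (P : Subgroup G) = 3 := by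
  classical
  have := isPrime_of_isPModular hM
  obtain ⟨χ₁, χ₂, h1, h2, -, -, -, hsum⟩ := exists_pair hM hk
  set N := pResidual p G
  have : N.Normal := Transfer.pResidual_normal p G
  have hNc : ¬ p ∣ Nat.card N := Transfer.hasNormalPComplement_iff_pResidual.mp h
  have hQ : IsPGroup p (G ⧸ N) := Transfer.isPGroup_quotient_pResidual
  have : Fintype (G ⧸ N) := Fintype.ofFinite _
  have hpow : ∀ χ ∈ principalBlock M G, ∃ i, charDegree (χ : G → ℂ) = p ^ i := fun χ hχ => by
    obtain ⟨η, hη⟩ := exists_inflate_eq_of_ker N χ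
      (trivial_on_of_mem_principalBlock hM N hNc hχ)
    obtain ⟨n, hn1, -, hn3⟩ := Char.exists_degree_dvd_card η.2
    obtain ⟨e, he⟩ := IsPGroup.iff_card.mp hQ
    rw [he] at hn3
    obtain ⟨i, -, hi⟩ := (Nat.dvd_prime_pow (Fact.out : p.Prime)).mp hn3
    refine ⟨i, ?_⟩
    subst hη
    show ⌊((η : G ⧸ N → ℂ) (QuotientGroup.mk' N 1)).re⌋₊ = _
    rw [map_one, hn1, Complex.natCast_re, Nat.floor_natCast, hi]
  obtain ⟨i, hi⟩ := hpow χ₁ h1
  obtain ⟨j, hj⟩ := hpow χ₂ h2
  obtain ⟨e, he⟩ := IsPGroup.iff_card.mp P.isPGroup'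
  have hsq := sum_sq_degree_principal_of_npc hM h P
  rw [finsum_mem_eq_finite_toFinset_sum _ (Set.toFinite _)] at hsq
  have hs := hsum fun χ => ((charDegree (χ : G → ℂ) ^ 2 : ℕ) : ℂ)
  have hfilt : (Set.toFinite (principalBlock M G)).toFinset =
      Finset.univ.filter (fun χ => χ ∈ principalBlock M G) := by
    ext; simp
  rw [hfilt] at hsq
  rw [← Nat.cast_sum, hsq, ← Nat.cast_add, ← Nat.cast_add, Nat.cast_inj, hi, hj] at hs
  have htd : charDegree (trivIrr G : G → ℂ) = 1 := by simp [charDegree, trivIrr]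
  rw [htd, one_pow, he] at hs
  rw [he]
  exact eq_three_of_sq_add_sq (i := i) (j := j) Fact.out (by omega)

/-- **Three characters in the principal block.** -/
theorem facts (hM : IsPModular p M) (hk : Nat.card (principalBlock M G) = 3) (P : Sylow p G) :
    Nat.card (P : Subgroup G) = 3 ∨
      (blockRank p (principalBlock M G) = 2 ∧ (P : Subgroup G) ≠ ⊥ ∧
        Nat.card (P : Subgroup G) ≠ 2 ∧
        (∀ x y : G, x ≠ 1 → y ≠ 1 → (∃ k : ℕ, orderOf x = p ^ k) →
          (∃ k : ℕ, orderOf y = p ^ k) → IsConj x y) ∧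
        (∀ x ∈ P, x ≠ 1 → ∀ Q : Subgroup G, IsPGroup p Q →
          Q ≤ Subgroup.centralizer ({x} : Set G) →
          ∀ c ∈ Subgroup.centralizer ({x} : Set G), ¬ p ∣ orderOf c →
            c ∈ Subgroup.normalizer (Q : Set G) → c ∈ Subgroup.centralizer (Q : Set G)) ∧
        ∃ a b f g : ℤ, 1 + a * f + b * g = 0 ∧
          1 + a ^ 2 + b ^ 2 = (Nat.card (P : Subgroup G) : ℤ)) := by
  classical
  have := isPrime_of_isPModular hM
  have hp : p.Prime := Fact.out
  have hB := isPBlock_principalBlock (M := M) (G := G)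
  have hpG := dvd_card_of_three hM hk
  have hrle := blockRank_le_card (p := p) (principalBlock M G)
  have hrpos := blockRank_pos (p := p) (IsPBlock.nonempty hB) hp.ne_one
  rw [hk] at hrle
  rcases (show blockRank p (principalBlock M G) = 1 ∨ blockRank p (principalBlock M G) = 2 ∨
      blockRank p (principalBlock M G) = 3 by omega) with hr | hr | hr
  · -- rank one
    exact Or.inl (card_sylow_of_npc hM hk ((Cfsg.Agent.S4691.result p M hM).mpr
      ((Cfsg.Agent.S4646.result p M hM).mpr hr)) P)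
  swap
  · -- rank three
    exfalso
    obtain ⟨v, hv⟩ := exists_prime_orderOf_dvd_card' p hpG
    have h0 := singular_zero_of_blockRank_eq_card hM (IsPBlock.isBlockUnion hB) (hr.trans hk.symm)
      (trivIrr_mem_principalBlock hM) (g := v) (by rw [IsPRegular, hv, not_not])
    exact one_ne_zero h0
  refine Or.inr ?_
  have hord : ∀ x ∈ (P : Subgroup G), ∃ k : ℕ, orderOf x = p ^ k := fun x hx => by
    obtain ⟨k, hk⟩ := IsPGroup.iff_orderOf.mp P.2 ⟨x, hx⟩
    exact ⟨k, by rw [← hk, ← Subgroup.orderOf_coe]⟩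
  obtain ⟨hconj, -, hone⟩ := secRank_eq_one hM (IsPBlock.isBlockUnion hB) (by rw [hk, hr])
    fun v _ hv => by
      rw [secRank, inducingInto_principal hM hv]
      exact blockRank_pos (IsPBlock.nonempty isPBlock_principalBlock) hp.ne_one
  have hrank1 : ∀ x : G, x ≠ 1 → (∃ k : ℕ, orderOf x = p ^ k) →
      blockRank p (principalBlock M (Subgroup.centralizer ({x} : Set G))) = 1 := fun x hx1 hx => by
    have := hone x hx1 hx
    rwa [secRank, inducingInto_principal hM hx] at this
  have hP1 : (P : Subgroup G) ≠ ⊥ := P.ne_bot_of_dvd_card hpG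
  refine ⟨hr, hP1, ?_, hconj, ?_, ?_⟩
  · intro h2
    have hnp : HasNormalPComplement p G := by
      refine Transfer.hasNormalPComplement_of_normalizer_le_centralizer P fun n hn => ?_
      refine Subgroup.mem_centralizer_iff.mpr fun q hq => ?_
      by_cases hq1 : q = 1
      · rw [hq1, one_mul, mul_one]
      have hq' : n * q * n⁻¹ ∈ (P : Subgroup G) := (Subgroup.mem_normalizer_iff.mp hn q).mp hq
      have e : n * q * n⁻¹ = q := by
        by_contra hne
        have hne1 : n * q * n⁻¹ ≠ 1 := fun h => hq1 (by simpa using h)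
        have h3 : ({1, ⟨q, hq⟩, ⟨_, hq'⟩} : Finset (P : Subgroup G)).card = 3 :=
          Finset.card_eq_three.mpr ⟨_, _, _,
            fun h => hq1 (congrArg Subtype.val h).symm, fun h => hne1 (congrArg Subtype.val h).symm,
            fun h => hne (congrArg Subtype.val h).symm, rfl⟩
        have h4 := Finset.card_le_univ ({1, ⟨q, hq⟩, ⟨_, hq'⟩} : Finset (P : Subgroup G))
        rw [← Nat.card_eq_fintype_card, h2, h3] at h4
        omega
      calc q * n = n * q * n⁻¹ * n := by rw [e]
        _ = n * q := by group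
    have h1 := (Cfsg.Agent.S4646.result p M hM).mp ((Cfsg.Agent.S4691.result p M hM).mp hnp)
    omega
  · intro x hx hx1 Q hQ hQC c hc hcp hcN
    obtain ⟨K, hKn, hK, hKreg⟩ := exists_kernel_of_rank_one hM (hrank1 x hx1 (hord x hx))
    have hcK : (⟨c, hc⟩ : Subgroup.centralizer ({x} : Set G)) ∈ K :=
      hKreg _ (by rwa [IsPRegular, ← Subgroup.orderOf_coe])
    refine Subgroup.mem_centralizer_iff.mpr fun q hq => ?_
    set qc : Subgroup.centralizer ({x} : Set G) := ⟨q, hQC hq⟩ with hqc
    set cc : Subgroup.centralizer ({x} : Set G) := ⟨c, hc⟩ with hcc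
    have hwK : cc * (qc * cc⁻¹ * qc⁻¹) ∈ K :=
      mul_mem hcK (hKn.conj_mem _ (inv_mem hcK) qc)
    have hwQ : ((cc * (qc * cc⁻¹ * qc⁻¹) : Subgroup.centralizer ({x} : Set G)) : G) ∈ Q := by
      show c * (q * c⁻¹ * q⁻¹) ∈ Q
      rw [show c * (q * c⁻¹ * q⁻¹) = c * q * c⁻¹ * q⁻¹ by group]
      exact mul_mem ((Subgroup.mem_normalizer_iff.mp hcN q).mp hq) (inv_mem hq)
    set w := cc * (qc * cc⁻¹ * qc⁻¹) with hw
    have hw1 : w = 1 := by
      obtain ⟨k, hk⟩ := IsPGroup.iff_orderOf.mp hQ ⟨_, hwQ⟩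
      rw [Subgroup.orderOf_mk, Subgroup.orderOf_coe] at hk
      rcases k.eq_zero_or_pos with rfl | hk0
      · exact orderOf_eq_one_iff.mp (by rw [hk, pow_zero])
      · exact absurd (((dvd_pow_self p hk0.ne').trans hk.symm.dvd).trans
          (Subgroup.orderOf_dvd_natCard K hwK)) hK
    have h1 : c * (q * c⁻¹ * q⁻¹) = 1 := congrArg Subtype.val hw1
    calc q * c = 1 * (q * c) := (one_mul _).symm
      _ = c * (q * c⁻¹ * q⁻¹) * (q * c) := by rw [h1]
      _ = c * q := by group
  -- the column at a central element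
  have hntP : Nontrivial (P : Subgroup G) := (Subgroup.nontrivial_iff_ne_bot _).mpr hP1
  have := P.2.center_nontrivial
  obtain ⟨⟨zc, hzc⟩, hzc1⟩ := exists_ne (1 : Subgroup.center (P : Subgroup G))
  set z : G := (zc : G) with hzdef
  have hzP : z ∈ (P : Subgroup G) := zc.2
  have hz1 : z ≠ 1 := fun h => hzc1 (Subtype.ext (Subtype.ext h))
  have hzo := hord z hzP
  have hle : (P : Subgroup G) ≤ Subgroup.centralizer ({z} : Set G) := fun y hy =>
    Subgroup.mem_centralizer_singleton_iff.mpr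
      (congrArg Subtype.val (Subgroup.mem_center_iff.mp hzc ⟨y, hy⟩))
  have hnpc : HasNormalPComplement p (Subgroup.centralizer ({z} : Set G)) :=
    (Cfsg.Agent.S4691.result p M hM).mpr
      ((Cfsg.Agent.S4646.result p M hM).mpr (hrank1 z hz1 hzo))
  have hnorm : ∑ χ : IrrCharacter G with χ ∈ principalBlock M G,
      (χ : G → ℂ) z * conj ((χ : G → ℂ) z) = (Nat.card (P : Subgroup G) : ℂ) := by
    rw [sum_principal_norm_sq hM hzo,
      sum_sq_degree_principal_of_npc hM hnpc (P.subtype hle)]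
    congr 1
    exact Nat.card_congr (Subgroup.subgroupOfEquivOfLe hle).toEquiv
  have hzsing : ¬ IsPRegular p z := by
    obtain ⟨k, hk⟩ := hzo
    rw [IsPRegular, not_not, hk]
    rcases k.eq_zero_or_pos with rfl | hk0
    · exact absurd (orderOf_eq_one_iff.mp (by rw [hk, pow_zero])) hz1
    · exact dvd_pow_self p hk0.ne'
  have hint : ∀ χ : IrrCharacter G, ∃ a : ℤ, (χ : G → ℂ) z = a := fun χ => by
    have hc := Char.isCharacter_of_isIrr χ.2
    obtain ⟨q, hq⟩ := (Char.rat_value_iff hc z).2 fun k hk => by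
      have hk' : (orderOf z).Coprime k :=
        (hk.coprime_dvd_right (orderOf_dvd_natCard z)).symm
      obtain ⟨e, he⟩ := hzo
      refine (Char.eq_of_isConj (Char.isClassFunction_irr χ) (hconj z (z ^ k) hz1 ?_ ⟨e, he⟩
        ⟨e, by rw [hk'.orderOf_pow]; exact he⟩)).symm
      intro h
      rw [← orderOf_eq_one_iff, hk'.orderOf_pow, orderOf_eq_one_iff] at h
      exact hz1 h
    obtain ⟨a, ha⟩ := Char.exists_int_of_isIntegral_rat (hq ▸ Char.isIntegral_value hc z)
    exact ⟨a, by rw [hq, ha]; norm_num⟩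
  have hone' : IsPRegular p (1 : G) := by rw [IsPRegular, orderOf_one]; exact hp.not_dvd_one
  have horth : ∑ χ : IrrCharacter G with χ ∈ principalBlock M G,
      (χ : G → ℂ) 1 * conj ((χ : G → ℂ) z) = 0 := by
    refine sum_block_mul_conj_eq_zero hM
      (S := Finset.univ.filter (fun χ => χ ∈ principalBlock M G)) ?_ hone' hzsing
    simpa using IsPBlock.isBlockUnion hB
  obtain ⟨χ₁, χ₂, -, -, -, -, -, hsum⟩ := exists_pair hM hk
  obtain ⟨a, ha⟩ := hint χ₁
  obtain ⟨b, hb⟩ := hint χ₂
  obtain ⟨f, -, hf⟩ := CfsgLib.Char.exists_nat_degree_irr χ₁.2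
  obtain ⟨g, -, hg⟩ := CfsgLib.Char.exists_nat_degree_irr χ₂.2
  rw [hsum] at hnorm horth
  have htv : ∀ y : G, (trivIrr G : G → ℂ) y = 1 := fun _ => rfl
  simp only [htv, ha, hb, hf, hg, map_one, map_intCast, mul_one] at hnorm horth
  refine ⟨a, b, f, g, ?_, ?_⟩
  · have : ((1 + a * (f : ℤ) + b * (g : ℤ) : ℤ) : ℂ) = ((0 : ℤ) : ℂ) := by
      push_cast
      linear_combination horth
    exact_mod_cast this
  · have : ((1 + a ^ 2 + b ^ 2 : ℤ) : ℂ) =
        (((Nat.card (P : Subgroup G) : ℕ) : ℤ) : ℂ) := by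
      push_cast
      linear_combination hnorm
    exact_mod_cast this

end CfsgLib.KThree
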