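import Mathlib.GroupTheory.Sylow
import Mathlib.GroupTheory.FixedPointFree
import Mathlib.GroupTheory.Transfer
import Mathlib.Algebra.Group.Int.Even
import Mathlib.Tactic.Group
import Mathlib.Tactic.Ring

/-!
# The shape of a Sylow subgroup when all `p`-elements are conjugate with `p`-nilpotent centralisers

Some element of two-power order of the normaliser inverts a central element, hence inverts the whole Sylow subgroup.
-/

set_option autoImplicit false
set_option linter.style.haveILetI false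

namespace CfsgLib.KThree

variable {G : Type*} [Group G] [Finite G] {p : ℕ} [Fact p.Prime]

theorem sylow_shape (hp : p ≠ 2) (P : Sylow p G) (hne : (P : Subgroup G) ≠ ⊥)
    (hone : ∀ x y : G, x ≠ 1 → y ≠ 1 → (∃ k : ℕ, orderOf x = p ^ k) → (∃ k : ℕ, orderOf y = p ^ k) → IsConj x y)
    (hcent : ∀ x ∈ P, x ≠ 1 → ∀ Q : Subgroup G, IsPGroup p Q → Q ≤ Subgroup.centralizer ({x} : Set G) →
      ∀ c ∈ Subgroup.centralizer ({x} : Set G), ¬ p ∣ orderOf c → c ∈ Subgroup.normalizer (Q : Set G) →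
        c ∈ Subgroup.centralizer (Q : Set G)) :
    (∀ x ∈ P, ∀ y ∈ P, x * y = y * x) ∧ (∀ x ∈ P, x ^ p = 1) ∧ (∃ t : G, ∀ x ∈ P, t * x * t⁻¹ = x⁻¹) ∧
      (∀ x ∈ P, ∀ y ∈ P, x ≠ 1 → y ≠ 1 →
        ∃ n ∈ Subgroup.normalizer ((P : Subgroup G) : Set G), n * x * n⁻¹ = y) := by
  have hpr : p.Prime := Fact.out
  haveI : Nontrivial ↥(P : Subgroup G) := (Subgroup.nontrivial_iff_ne_bot _).mpr hne
  have hpow : ∀ x ∈ (P : Subgroup G), ∃ k : ℕ, orderOf x = p ^ k := fun x hx => by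
    obtain ⟨k, hk⟩ := (IsPGroup.iff_orderOf.mp P.isPGroup') ⟨x, hx⟩
    exact ⟨k, by rw [← hk, Subgroup.orderOf_mk]⟩
  have hodd : ∀ x ∈ (P : Subgroup G), x = x⁻¹ → x = 1 := fun x hx h => by
    obtain ⟨k, hk⟩ := hpow x hx
    have h2 : x ^ 2 = 1 := by rw [pow_two]; nth_rw 1 [h]; exact inv_mul_cancel x
    have h3 : orderOf x ∣ 2 := orderOf_dvd_of_pow_eq_one h2
    rw [hk] at h3
    rw [← orderOf_eq_one_iff, hk]
    exact Nat.Coprime.eq_one_of_dvd
      (Nat.Coprime.pow_left k ((Nat.coprime_primes hpr Nat.prime_two).mpr hp)) h3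
  -- a central element and an element of two-power order inverting it
  haveI : Nontrivial (Subgroup.center ↥(P : Subgroup G)) := P.isPGroup'.center_nontrivial
  obtain ⟨⟨⟨z, hzP⟩, hzc⟩, hz1⟩ := exists_ne (1 : Subgroup.center ↥(P : Subgroup G))
  have hz0 : z ≠ 1 := fun h => hz1 (Subtype.ext (Subtype.ext h))
  have hzC : z ∈ Subgroup.centralizer ((P : Subgroup G) : Set G) := Subgroup.mem_centralizer_iff.mpr fun h hh =>
    congrArg Subtype.val (Subgroup.mem_center_iff.mp hzc ⟨h, hh⟩)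
  obtain ⟨g, hg⟩ := isConj_iff.mp (hone z z⁻¹ hz0 (fun h => hz0 (inv_eq_one.mp h)) (hpow z hzP)
    (hpow z⁻¹ (inv_mem hzP)))
  have hgz : g⁻¹⁻¹ * z * g⁻¹ = z⁻¹ := by rw [inv_inv]; exact hg
  obtain ⟨n, hn, hnz⟩ := Sylow.conj_eq_normalizer_conj_of_mem_centralizer P z g⁻¹ hzC
    (hgz ▸ inv_mem hzC)
  rw [hgz] at hnz
  have hn' : n⁻¹ * z * n⁻¹⁻¹ = z⁻¹ := by rw [inv_inv]; exact hnz.symm
  obtain ⟨i, m, hm, hord⟩ := Nat.exists_eq_pow_mul_and_not_dvd (orderOf_pos n⁻¹).ne' 2 (by omega)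
  set t := n⁻¹ ^ m with ht
  have htN : t ∈ Subgroup.normalizer ((P : Subgroup G) : Set G) := pow_mem (inv_mem hn) m
  have hcj : ∀ j : ℕ, MulAut.conj (n⁻¹ ^ j) z = z ^ ((-1 : ℤ) ^ j) := fun j => by
    induction j with
    | zero => simp
    | succ j ih =>
      rw [pow_succ', map_mul, MulAut.mul_apply, ih, map_zpow, MulAut.conj_apply, hn', inv_zpow', ← neg_one_mul,
        ← pow_succ']
  have htz : t * z * t⁻¹ = z⁻¹ := by
    have h := hcj m
    have hmo : Odd m := Nat.not_even_iff_odd.mp fun he => hm (even_iff_two_dvd.mp he)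
    rw [hmo.neg_one_pow, zpow_neg_one, MulAut.conj_apply] at h
    exact h
  have hto : ∀ j : ℕ, ¬ p ∣ orderOf (t ^ j) := fun j hd => by
    have h1 : orderOf (t ^ j) ∣ 2 ^ i := (orderOf_pow_dvd j).trans (orderOf_dvd_of_pow_eq_one (by
      rw [ht, ← pow_mul, mul_comm m (2 ^ i), ← hord, pow_orderOf_eq_one]))
    exact hp ((Nat.prime_dvd_prime_iff_eq hpr Nat.prime_two).mp (hpr.dvd_of_dvd_pow (hd.trans h1)))
  -- `t` fixes nothing
  have hfix : ∀ x ∈ (P : Subgroup G), t * x * t⁻¹ = x → x = 1 := fun x hx hfx => by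
    by_contra hx1
    have htx : t * x = x * t := by
      calc t * x = t * x * t⁻¹ * t := by group
        _ = x * t := by rw [hfx]
    have h1 : t ∈ Subgroup.centralizer ({x} : Set G) :=
      Subgroup.mem_centralizer_singleton_iff.mpr htx
    have h2 : t ∈ Subgroup.normalizer
        (((P : Subgroup G) ⊓ Subgroup.centralizer ({x} : Set G) : Subgroup G) : Set G) :=
      Subgroup.inf_normalizer_le_normalizer_inf ⟨htN, Subgroup.le_normalizer h1⟩
    have h3 := hcent x hx hx1 _ (P.isPGroup'.to_le inf_le_left) inf_le_right t h1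
      (by simpa using hto 1) h2
    have hzx : z ∈ (P : Subgroup G) ⊓ Subgroup.centralizer ({x} : Set G) :=
      ⟨hzP, Subgroup.mem_centralizer_singleton_iff.mpr ((Subgroup.mem_centralizer_iff.mp hzC x hx).symm)⟩
    have h4 := Subgroup.mem_centralizer_iff.mp h3 z hzx
    refine hz0 (hodd z hzP ?_)
    rw [← htz, ← h4, mul_inv_cancel_right]
  -- `t ^ 2` centralises the Sylow subgroup
  have hsq : ∀ x ∈ (P : Subgroup G), t * (t * x * t⁻¹) * t⁻¹ = x := by
    have h1 : t ^ 2 ∈ Subgroup.centralizer ({z} : Set G) := Subgroup.mem_centralizer_singleton_iff.mpr (by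
      calc t ^ 2 * z = t * (t * z * t⁻¹) * t := by rw [pow_two]; group
        _ = t * z⁻¹ * t⁻¹ * t * t := by rw [htz]; group
        _ = (t * z * t⁻¹)⁻¹ * t * t := by group
        _ = z * t ^ 2 := by rw [htz, inv_inv, pow_two, mul_assoc])
    have h2 : (P : Subgroup G) ≤ Subgroup.centralizer ({z} : Set G) := fun x hx =>
      Subgroup.mem_centralizer_singleton_iff.mpr (Subgroup.mem_centralizer_iff.mp hzC x hx)
    have h3 := hcent z hzP hz0 _ P.isPGroup' h2 _ h1 (hto 2) (pow_mem htN 2)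
    intro x hx
    have h4 := Subgroup.mem_centralizer_iff.mp h3 x hx
    calc t * (t * x * t⁻¹) * t⁻¹ = t ^ 2 * x * (t ^ 2)⁻¹ := by rw [pow_two]; group
      _ = x := by rw [← h4, mul_inv_cancel_right]
  let φ : ↥(P : Subgroup G) →* ↥(P : Subgroup G) :=
    { toFun := fun x => ⟨t * x * t⁻¹, (Subgroup.mem_normalizer_iff.mp htN _).mp x.2⟩
      map_one' := Subtype.ext (by simp)
      map_mul' := fun x y => Subtype.ext (by
        show t * (x * y : G) * t⁻¹ = t * x * t⁻¹ * (t * y * t⁻¹)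
        group) }
  have hφ : MonoidHom.FixedPointFree φ := fun x hx => Subtype.ext (hfix x x.2 (congrArg Subtype.val hx))
  have hinv := hφ.coe_eq_inv_of_involutive (fun x => Subtype.ext (hsq x x.2))
  have hinvt : ∀ x ∈ P, t * x * t⁻¹ = x⁻¹ := fun x hx => congrArg Subtype.val (congrFun hinv ⟨x, hx⟩)
  have hab : ∀ x ∈ P, ∀ y ∈ P, x * y = y * x := fun x hx y hy => by
    have h : (y * x)⁻¹ = y⁻¹ * x⁻¹ := by
      rw [← hinvt _ (mul_mem hy hx), ← hinvt y hy, ← hinvt x hx]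
      group
    rw [← mul_inv_rev] at h
    exact (inv_injective h).symm
  refine ⟨hab, fun x hx => ?_, ⟨t, hinvt⟩, fun x hx y hy hx1 hy1 => ?_⟩
  · rcases eq_or_ne x 1 with rfl | hx1
    · exact one_pow p
    obtain ⟨k, hk⟩ := hpow z hzP
    obtain ⟨u, hu⟩ : ∃ u : ↥(P : Subgroup G), orderOf u = p := by
      refine exists_prime_orderOf_dvd_card' p ?_
      obtain ⟨l, hl⟩ := IsPGroup.iff_card.mp P.isPGroup'
      rcases Nat.eq_zero_or_pos l with h0 | h0
      · rw [h0, pow_zero] at hl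
        exact absurd (Subgroup.eq_bot_of_card_eq _ hl) hne
      · rw [hl]; exact dvd_pow_self p h0.ne'
    have hu' : orderOf (u : G) = p := by rw [Subgroup.orderOf_coe, hu]
    obtain ⟨a, ha⟩ := isConj_iff.mp (hone (u : G) x (fun h => hpr.ne_one (by rw [← hu', h, orderOf_one])) hx1
      (hpow _ u.2) (hpow x hx))
    have hup : (u : G) ^ p = 1 := orderOf_dvd_iff_pow_eq_one.mp (dvd_of_eq hu')
    rw [← ha, conj_pow, hup, mul_one, mul_inv_cancel]
  · have hxC : ∀ w ∈ P, w ∈ Subgroup.centralizer ((P : Subgroup G) : Set G) := fun w hw =>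
      Subgroup.mem_centralizer_iff.mpr fun h hh => hab h hh w hw
    obtain ⟨a, ha⟩ := isConj_iff.mp (hone x y hx1 hy1 (hpow x hx) (hpow y hy))
    have hay : a⁻¹⁻¹ * x * a⁻¹ = y := by rw [inv_inv]; exact ha
    obtain ⟨b, hb, hbx⟩ := Sylow.conj_eq_normalizer_conj_of_mem_centralizer P x a⁻¹ (hxC x hx)
      (hay ▸ hxC y hy)
    rw [hay] at hbx
    exact ⟨b⁻¹, inv_mem hb, by rw [inv_inv]; exact hbx.symm⟩

omit [Finite G] in
/-- The arithmetic of the two decomposition vectors. -/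
theorem not_square {a b f g : ℤ} {N : ℕ} (h1 : 1 + a * f + b * g = 0) (h2 : 1 + a ^ 2 + b ^ 2 = (N : ℤ)) :
    ¬ IsSquare N ∧ ¬ 4 ∣ N := by
  have key : N % 4 = 2 ∨ N % 4 = 3 := by
    rcases Int.even_or_odd a with ⟨r, hr⟩ | ⟨r, hr⟩ <;> rcases Int.even_or_odd b with ⟨s, hs⟩ | ⟨s, hs⟩
    · exfalso
      have h3 : 1 + 2 * (r * f + s * g) = 0 := by rw [← h1, hr, hs]; ring
      omega
    · left
      have h3 : (N : ℤ) = 2 + 4 * (r ^ 2 + s ^ 2 + s) := by rw [← h2, hr, hs]; ring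
      omega
    · left
      have h3 : (N : ℤ) = 2 + 4 * (r ^ 2 + r + s ^ 2) := by rw [← h2, hr, hs]; ring
      omega
    · right
      have h3 : (N : ℤ) = 3 + 4 * (r ^ 2 + r + s ^ 2 + s) := by rw [← h2, hr, hs]; ring
      omega
  refine ⟨?_, fun h => by omega⟩
  rintro ⟨r, hr⟩
  have h4 : N % 4 = (r % 4) * (r % 4) % 4 := by rw [hr, Nat.mul_mod]
  have h5 : r % 4 < 4 := Nat.mod_lt _ (by norm_num)
  interval_cases h6 : r % 4 <;> omega

theorem not_square_pow {a b f g : ℤ} {N n : ℕ} (h1 : 1 + a * f + b * g = 0)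
    (h2 : 1 + a ^ 2 + b ^ 2 = (N : ℤ)) (hN : N = p ^ n) : ¬ IsSquare N ∧ (p ≠ 2 ∨ N = 2) := by
  obtain ⟨h3, h4⟩ := not_square h1 h2
  refine ⟨h3, ?_⟩
  by_cases h : p = 2
  · right
    subst h
    rcases n with _ | _ | n
    · exact absurd (by rw [hN]; exact ⟨1, by norm_num⟩) h3
    · simpa using hN
    · exact absurd ⟨2 ^ n, by rw [hN]; ring⟩ h4
  · exact Or.inl h

end CfsgLib.KThree
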