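import Cfsg.Agent.Lib.KThree.Small
import Cfsg.Agent.Lib.KThree.Shape
import Cfsg.Agent.Lib.KThree.Cobound
import Cfsg.Agent.Lib.KThree.Dim
import Cfsg.Agent.Lib.KThree.Facts
import Cfsg.Agent.Lib.Blocks.LocalRing

/-!
# Assembly: a principal block with three characters forces a Sylow subgroup of order three
-/

set_option autoImplicit false
set_option linter.unusedSectionVars false

namespace CfsgLib.KThree

open Cfsg CfsgLib.Blocks CfsgLib.GrpRing

variable {p : ℕ} [Fact p.Prime] {M : Ideal AlgInt} [M.IsPrime] {G : Type*} [Group G] [Fintype G]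

/-- The order of a Sylow subgroup divides three once a setting exists on the group algebra. -/
theorem card_dvd_three (hM : IsPModular p M) (S : Setting (ResField M) (KG M G)) (P : Sylow p G) :
    Nat.card (P : Subgroup G) ∣ 3 := by
  obtain ⟨he, hg⟩ := S.finrank_projective
  have h1 := pow_dvd_finrank_idem hM (e := S.e) S.ee
  have h2 := pow_dvd_finrank_idem hM (e := S.g) S.gg
  rw [he] at h1
  rw [hg] at h2
  rw [← P.card_eq_multiplicity] at h1 h2
  obtain ⟨r, hr⟩ := h1
  obtain ⟨s, hs⟩ := h2
  refine Int.natCast_dvd_natCast.mp ⟨2 * (r : ℤ) - s, ?_⟩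
  have hr' : (2 : ℤ) + S.m = Nat.card (P : Subgroup G) * r := by exact_mod_cast hr
  have hs' : (1 : ℤ) + 2 * S.m = Nat.card (P : Subgroup G) * s := by exact_mod_cast hs
  push_cast
  linear_combination 2 * hr' - hs'

/-- The assembly from the block facts and the bridge. -/
theorem card_eq_three (hM : IsPModular p M) (P : Sylow p G) (hne : (P : Subgroup G) ≠ ⊥)
    (h2 : Nat.card (P : Subgroup G) ≠ 2)
    (hone : ∀ x y : G, x ≠ 1 → y ≠ 1 → (∃ k : ℕ, orderOf x = p ^ k) →
      (∃ k : ℕ, orderOf y = p ^ k) → IsConj x y)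
    (hcent : ∀ x ∈ P, x ≠ 1 → ∀ Q : Subgroup G, IsPGroup p Q →
      Q ≤ Subgroup.centralizer ({x} : Set G) →
      ∀ c ∈ Subgroup.centralizer ({x} : Set G), ¬ p ∣ orderOf c →
        c ∈ Subgroup.normalizer (Q : Set G) → c ∈ Subgroup.centralizer (Q : Set G))
    {a b f g : ℤ} (h1 : 1 + a * f + b * g = 0)
    (hn : 1 + a ^ 2 + b ^ 2 = (Nat.card (P : Subgroup G) : ℤ))
    (bridge : (∀ γ : G → G → ResField M,
        (∀ x y z, γ x (y * z) + γ y z = γ (x * y) z + γ x y) →
          ∃ t : G → ResField M, ∀ x y, t (x * y) = t x + t y + γ x y) →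
      Nonempty (Setting (ResField M) (KG M G))) :
    Nat.card (P : Subgroup G) = 3 := by
  haveI := charP_resField hM
  obtain ⟨n, hN⟩ := IsPGroup.iff_card.mp P.2
  obtain ⟨hsq, hp⟩ := not_square_pow (p := p) h1 hn hN
  obtain ⟨hcomm, helem, hinv, htrans⟩ :=
    sylow_shape (hp.resolve_right h2) P hne hone hcent
  obtain ⟨S⟩ := bridge fun γ hγ =>
    exists_cobound (hp.resolve_right h2) P hcomm helem hinv htrans hsq γ hγ
  rcases (Nat.dvd_prime Nat.prime_three).mp (card_dvd_three hM S P) with h | h
  · exact absurd (Subgroup.eq_bot_of_card_eq _ h) hne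
  · exact h

/-- A Sylow subgroup of order two has a normal complement. -/
theorem hasNormalPComplement_of_card_two (P : Sylow p G) (h : Nat.card (P : Subgroup G) = 2) :
    HasNormalPComplement p G := by
  have hle : Subgroup.normalizer ((P : Subgroup G) : Set G) ≤
      Subgroup.centralizer ((P : Subgroup G) : Set G) := fun n hn => by
    refine Subgroup.mem_centralizer_iff.mpr fun x hx => ?_
    rcases eq_or_ne x 1 with rfl | hx1
    · simp
    obtain ⟨u, v, huv, huniv⟩ := Nat.card_eq_two_iff.mp h
    have key : ∀ z : (P : Subgroup G), z ≠ 1 → z = ⟨x, hx⟩ := fun z hz => by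
      have h1 := huniv.symm ▸ Set.mem_univ z
      have h2 := huniv.symm ▸ Set.mem_univ (⟨x, hx⟩ : (P : Subgroup G))
      have h3 := huniv.symm ▸ Set.mem_univ (1 : (P : Subgroup G))
      simp only [Set.mem_insert_iff, Set.mem_singleton_iff] at h1 h2 h3
      have hx' : (⟨x, hx⟩ : (P : Subgroup G)) ≠ 1 := fun e => hx1 (congrArg Subtype.val e)
      rcases h1 with h1 | h1 <;> rcases h2 with h2 | h2 <;> rcases h3 with h3 | h3 <;>
        first
          | exact h1.trans h2.symm
          | exact absurd (h1.trans h3.symm) hz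
          | exact absurd (h2.trans h3.symm) hx'
    have h4 : n * x * n⁻¹ = x := congrArg Subtype.val
      (key ⟨n * x * n⁻¹, (Subgroup.mem_normalizer_iff.mp hn x).mp hx⟩ fun e =>
        hx1 (by simpa using congrArg Subtype.val e))
    exact (mul_inv_eq_iff_eq_mul.mp h4).symm
  exact ⟨P, _, MonoidHom.normal_ker _, MonoidHom.ker_transferSylow_isComplement' P hle⟩

/-- The order of a Sylow subgroup, from the bridge. -/
theorem card_eq_three_of_bridge (hM : IsPModular p M)
    (hk : Nat.card (principalBlock M G) = 3) (P : Sylow p G)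
    (bridge : blockRank p (principalBlock M G) = 2 → (∀ γ : G → G → ResField M,
        (∀ x y z, γ x (y * z) + γ y z = γ (x * y) z + γ x y) →
          ∃ t : G → ResField M, ∀ x y, t (x * y) = t x + t y + γ x y) →
      Nonempty (Setting (ResField M) (KG M G))) :
    Nat.card (P : Subgroup G) = 3 := by
  rcases facts hM hk P with h | ⟨hl, hne, h2, hone, hcent, a, b, f, g, h1, hn⟩
  · exact h
  · exact card_eq_three hM P hne h2 hone hcent h1 hn (bridge hl)

end CfsgLib.KThree
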