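import Cfsg.Agent.Lib.KThree.Core
import Mathlib.LinearAlgebra.Dimension.Constructions
import Mathlib.LinearAlgebra.Dimension.Finrank

/-!
# The dimensions of the projective modules when the cube of the radical vanishes
-/

set_option autoImplicit false
set_option linter.unusedSectionVars false

namespace CfsgLib.KThree

variable {K : Type*} [Field K] {A : Type*} [Ring A] [Algebra K A] (S : Setting K A)

namespace Setting

theorem mul_J2_eq_zero {x y : A} (hx : x ∈ S.J2) (hy : y ∈ S.J) : x * y = 0 := by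
  have h := S.mem_J3 hx hy
  rw [S.cube_eq_bot] at h
  exact (Submodule.mem_bot K).mp h

theorem J2_mul_eq_zero {x y : A} (hx : x ∈ S.J) (hy : y ∈ S.J2) : x * y = 0 := by
  have h := S.mem_J3' hx hy
  rw [S.cube_eq_bot] at h
  exact (Submodule.mem_bot K).mp h

theorem tau_e_f (x y : A) :
    S.tau (S.e * x * S.f * y) = S.tau (S.e * x * S.f * (S.f * y * S.e)) := by
  calc S.tau (S.e * x * S.f * y) = S.tau (S.e * (S.e * x * S.f * y)) := by
        simp only [← mul_assoc, S.ee]
    _ = S.tau (S.e * x * S.f * y * S.e) := S.tau_tr _ _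
    _ = _ := by rw [← mul_assoc, ← mul_assoc, mul_assoc (S.e * x) S.f S.f, S.ff]

theorem tau_f_e (x y : A) :
    S.tau (S.f * x * S.e * y) = S.tau (S.f * x * S.e * (S.e * y * S.f)) := by
  calc S.tau (S.f * x * S.e * y) = S.tau (S.f * (S.f * x * S.e * y)) := by
        simp only [← mul_assoc, S.ff]
    _ = S.tau (S.f * x * S.e * y * S.f) := S.tau_tr _ _
    _ = _ := by rw [← mul_assoc, ← mul_assoc, mul_assoc (S.f * x) S.e S.e, S.ee]

theorem square_ne_bot : S.J2 ≠ ⊥ := fun h => by
  refine S.not_split (fun x => S.tau_nd _ fun y => ?_) (fun x => S.tau_nd _ fun y => ?_)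
  · have h2 := S.mem_J2 (S.hef x) (S.hfe y)
    rw [h, Submodule.mem_bot] at h2
    rw [S.tau_e_f, h2, map_zero]
  · have h2 := S.mem_J2 (S.hfe x) (S.hef y)
    rw [h, Submodule.mem_bot] at h2
    rw [S.tau_f_e, h2, map_zero]

/-- The trace separates the second layer of a corner. -/
theorem eq_zero_of_tau {h s : A} (hh : h * h = h) (hc : ∀ y, ∃ c : K, h * y * h - c • h ∈ S.J)
    (hs : s ∈ S.J2) (hl : h * s = s) (hr : s * h = s) (h0 : S.tau s = 0) : s = 0 := by
  refine S.tau_nd s fun y => ?_
  obtain ⟨c, hcy⟩ := hc y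
  have e1 : S.tau (s * y) = S.tau (s * (h * y * h)) := by
    calc S.tau (s * y) = S.tau (h * (s * h * y)) := by rw [hr, ← mul_assoc, hl]
      _ = S.tau (s * h * y * h) := S.tau_tr _ _
      _ = _ := by simp only [mul_assoc]
  rw [e1, show h * y * h = (h * y * h - c • h) + c • h by abel, mul_add, S.mul_J2_eq_zero hs hcy,
    zero_add, mul_smul_comm, hr, map_smul, h0, smul_zero]

theorem hef' {a : A} (he : S.e * a = a) (hg : a * S.g = a) : a ∈ S.J := by
  have h := S.Jr S.g _ (S.hef a)
  rwa [mul_assoc (S.e * a) S.f S.g, S.fg, he, hg] at h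

theorem hfe' {a : A} (hg : S.g * a = a) (he : a * S.e = a) : a ∈ S.J := by
  have h := S.Jl S.g _ (S.hfe a)
  rwa [← mul_assoc, ← mul_assoc, S.gf, hg, he] at h

/-- The product of the two off-diagonal parts has no zero divisors. -/
theorem prod_ne_zero {a c : A} (ha : S.e * a = a) (ha' : a * S.g = a) (hc : S.g * c = c)
    (hc' : c * S.e = c) (h : a * c = 0) : a = 0 ∨ c = 0 := by
  by_contra hne
  obtain ⟨ha0, hc0⟩ := not_or.mp hne
  have haJ := S.hef' ha ha'
  have hcJ := S.hfe' hc hc'
  obtain ⟨α, hα⟩ : ∃ α : A →ₗ[K] K, α a ≠ 0 := by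
    by_contra hh
    push Not at hh
    exact ha0 ((Module.forall_dual_apply_eq_zero_iff K a).mp hh)
  obtain ⟨β, hβ⟩ : ∃ β : A →ₗ[K] K, β c ≠ 0 := by
    by_contra hh
    push Not at hh
    exact hc0 ((Module.forall_dual_apply_eq_zero_iff K c).mp hh)
  let Γ : A →ₗ[K] A →ₗ[K] K :=
    LinearMap.mk₂ K (fun p q => ∑ i, α (S.e * p * S.u i) * β (S.v i * q * S.e))
      (fun p p' q => by simp only [mul_add, add_mul, map_add, Finset.sum_add_distrib])
      (fun r p q => by
        simp only [mul_smul_comm, smul_mul_assoc, map_smul, smul_eq_mul, Finset.mul_sum, mul_assoc])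
      (fun p q q' => by simp only [mul_add, add_mul, map_add, Finset.sum_add_distrib])
      (fun r p q => by
        simp only [mul_smul_comm, smul_mul_assoc, map_smul, smul_eq_mul, Finset.mul_sum]
        exact Finset.sum_congr rfl fun i _ => by ring)
  have hΓ : ∀ p q, Γ p q = ∑ i, α (S.e * p * S.u i) * β (S.v i * q * S.e) := fun _ _ => rfl
  have h2 := S.square_ne_bot
  choose d hd using fun y => S.loop_g h2 (x := y)
  have hmid : ∀ q i j, S.v i * q * S.u j - d (S.v i * q * S.u j) • S.g ∈ S.J2 := fun q i j => by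
    have := hd (S.v i * q * S.u j)
    rwa [S.corner_g] at this
  obtain ⟨T, hT⟩ := S.cobound Γ fun p q r => by
    have hl : ∀ i, S.v i * (q * r) * S.e = S.eps r • (S.v i * q * S.e) +
        ∑ j, d (S.v i * q * S.u j) • (S.v j * r * S.e) := fun i => by
      rw [S.split _ q r (S.vb i), add_mul]
      congr 1
      · have e1 : S.v i * q * S.e * r * S.e =
            S.v i * q * S.e * (S.e * r * S.e - S.eps r • S.e) + S.eps r • (S.v i * q * S.e) := by
          simp only [mul_sub, mul_smul_comm, ← mul_assoc]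
          rw [mul_assoc (S.v i * q) S.e S.e, S.ee, sub_add_cancel]
        rw [e1]
        convert zero_add _
        refine S.J2_mul_eq_zero ?_ (S.loop_e h2)
        have := S.Jl (S.v i) _ (S.hfe q)
        rwa [← mul_assoc, ← mul_assoc, S.vf] at this
      · rw [← S.huv, Finset.mul_sum, Finset.sum_mul, Finset.sum_mul]
        refine Finset.sum_congr rfl fun j _ => ?_
        have e1 : S.v i * q * (S.u j * S.v j) * r * S.e = S.v i * q * S.u j * (S.v j * r * S.e) := by
          simp only [mul_assoc]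
        have hJ : S.v j * r * S.e ∈ S.J := by
          have := S.Jl (S.v j) _ (S.hfe r)
          rwa [← mul_assoc, ← mul_assoc, S.vf] at this
        have := S.mul_J2_eq_zero (hmid q i j) hJ
        rw [sub_mul, sub_eq_zero, smul_mul_assoc, ← mul_assoc S.g, ← mul_assoc S.g, S.gv] at this
        rw [e1, this]
    have hr : ∀ j, S.e * (p * q) * S.u j = S.eps p • (S.e * q * S.u j) +
        ∑ i, d (S.v i * q * S.u j) • (S.e * p * S.u i) := fun j => by
      rw [S.split _ p q S.eb, add_mul]
      congr 1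
      · have e1 : S.e * p * S.e * q * S.u j =
            (S.e * p * S.e - S.eps p • S.e) * (q * S.u j) + S.eps p • (S.e * q * S.u j) := by
          simp only [sub_mul, smul_mul_assoc, mul_assoc, sub_add_cancel]
        rw [e1]
        convert zero_add _
        have hse : (S.e * p * S.e - S.eps p • S.e) * S.e = S.e * p * S.e - S.eps p • S.e := by
          rw [sub_mul, smul_mul_assoc, mul_assoc (S.e * p) S.e S.e, S.ee]
        rw [← hse, mul_assoc]
        refine S.mul_J2_eq_zero (S.loop_e h2) ?_
        have := S.Jr (S.u j) _ (S.hef q)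
        rw [mul_assoc (S.e * q) S.f, S.fu, mul_assoc S.e q] at this
        exact this
      · rw [← S.huv, Finset.mul_sum, Finset.sum_mul, Finset.sum_mul]
        refine Finset.sum_congr rfl fun i _ => ?_
        have e1 : S.e * p * (S.u i * S.v i) * q * S.u j = S.e * p * S.u i * (S.v i * q * S.u j) := by
          simp only [mul_assoc]
        have hJ : S.e * p * S.u i ∈ S.J := by
          have := S.Jr (S.u i) _ (S.hef p)
          rwa [mul_assoc (S.e * p) S.f, S.fu] at this
        have := S.J2_mul_eq_zero hJ (hmid q i j)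
        rw [mul_sub, sub_eq_zero, mul_smul_comm, mul_assoc (S.e * p) (S.u i) S.g, S.ug] at this
        rw [e1, this]
    simp only [hΓ, hl, hr, map_add, map_smul, map_sum, smul_eq_mul, mul_add, add_mul,
      Finset.sum_add_distrib, Finset.mul_sum, Finset.sum_mul]
    conv_rhs => enter [1, 2]; rw [Finset.sum_comm]
    simp only [mul_assoc, mul_left_comm, mul_comm]
    ring
  have hea : S.eps a = 0 := S.eps_J a haJ
  have hec : S.eps c = 0 := S.eps_J c hcJ
  choose lam hlam using fun i => S.hg (S.u i)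
  choose mu hmu using fun i => S.hg (S.v i)
  choose l hl' using fun i => S.loop_g h2 (x := S.u i)
  choose r hr' using fun i => S.loop_g h2 (x := S.v i)
  have hau : ∀ i, S.e * a * S.u i = l i • a := fun i => by
    have := S.J2_mul_eq_zero haJ (hl' i)
    rw [mul_sub, sub_eq_zero, mul_smul_comm, ha', ← mul_assoc, ← mul_assoc, ha', mul_assoc, S.ug]
      at this
    rw [ha, this]
  have hvc : ∀ i, S.v i * c * S.e = r i • c := fun i => by
    have := S.mul_J2_eq_zero (hr' i) hcJ
    rw [sub_mul, sub_eq_zero, smul_mul_assoc, hc, S.gv, mul_assoc (S.v i) S.g, hc] at this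
    rw [mul_assoc (S.v i), hc', this]
  have hsum : ∑ i, l i * r i = 1 := by
    have e1 : c = ∑ i, S.g * S.u i * (S.v i * c * S.e) := by
      calc c = S.g * S.f * (c * S.e) := by rw [S.gf, hc', hc]
        _ = _ := by
          rw [← S.huv, Finset.mul_sum, Finset.sum_mul]
          exact Finset.sum_congr rfl fun i _ => by simp only [mul_assoc]
    have e2 : c = (∑ i, l i * r i) • c := by
      conv_lhs => rw [e1]
      rw [Finset.sum_smul]
      refine Finset.sum_congr rfl fun i _ => ?_
      have := S.mul_J2_eq_zero (hl' i) hcJ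
      rw [sub_mul, sub_eq_zero, smul_mul_assoc, hc, mul_assoc S.g, S.ug] at this
      rw [hvc i, mul_smul_comm, this, smul_smul, mul_comm]
    exact smul_left_injective K hc0 (by simpa using e2.symm)
  have := hT a c
  rw [h, map_zero, hea, hec, zero_mul, mul_zero, zero_add, zero_add, hΓ] at this
  simp only [hau, hvc, map_smul, smul_eq_mul] at this
  rw [show ∑ i, l i * α a * (r i * β c) = (∑ i, l i * r i) * (α a * β c) by
    rw [Finset.sum_mul]; exact Finset.sum_congr rfl fun i _ => by ring, hsum, one_mul] at this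
  exact mul_ne_zero hα hβ this.symm

theorem exists_bases : ∃ a c : A, (S.e * a = a ∧ a * S.g = a ∧ a ≠ 0) ∧
    (S.g * c = c ∧ c * S.e = c ∧ c ≠ 0) ∧
    (∀ x, ∃ t : K, S.e * x * S.g = t • a) ∧ (∀ x, ∃ t : K, S.g * x * S.e = t • c) ∧
    (∀ x, S.e * x * S.e ∈ Submodule.span K {S.e, a * c}) ∧
    (∀ x, S.g * x * S.g ∈ Submodule.span K {S.g, c * a}) ∧ S.tau (a * c) ≠ 0 := by
  obtain ⟨c₀, hc₀⟩ : ∃ x, S.g * x * S.e ≠ 0 := by
    by_contra hh
    push Not at hh
    have hfe0 : ∀ x, S.f * x * S.e = 0 := fun x => by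
      rw [← S.huv, Finset.sum_mul, Finset.sum_mul]
      refine Finset.sum_eq_zero fun i _ => ?_
      rw [← S.gv i, show S.u i * (S.g * S.v i) * x * S.e = S.u i * (S.g * (S.v i * x) * S.e) by
        simp only [mul_assoc], hh, mul_zero]
    refine S.not_split (fun x => S.tau_nd _ fun y => ?_) hfe0
    rw [S.tau_e_f, hfe0, mul_zero, map_zero]
  set c := S.g * c₀ * S.e with hcdef
  have hc : S.g * c = c := by rw [hcdef, ← mul_assoc, ← mul_assoc, S.gg]
  have hc' : c * S.e = c := by rw [hcdef, mul_assoc, S.ee]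
  obtain ⟨y, hy⟩ : ∃ y, S.tau (c * y) ≠ 0 := by
    by_contra hh
    push Not at hh
    exact hc₀ (S.tau_nd c hh)
  set a := S.e * y * S.g with hadef
  have ha : S.e * a = a := by rw [hadef, ← mul_assoc, ← mul_assoc, S.ee]
  have ha' : a * S.g = a := by rw [hadef, mul_assoc, S.gg]
  have hca : S.tau (c * a) ≠ 0 := by
    have : S.tau (c * y) = S.tau (c * a) := by
      calc S.tau (c * y) = S.tau (S.g * (c * S.e * y)) := by rw [hc', ← mul_assoc, hc]
        _ = S.tau (c * S.e * y * S.g) := S.tau_tr _ _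
        _ = _ := by rw [hadef]; simp only [mul_assoc]
    rwa [← this]
  have ha0 : a ≠ 0 := fun h => hca (by rw [h, mul_zero, map_zero])
  have hac : S.tau (a * c) ≠ 0 := by rwa [S.tau_tr]
  clear_value a
  clear_value c
  clear hcdef hadef
  have he1 : ∀ x, ∃ t : K, S.e * x * S.e - S.eps x • S.e = t • (a * c) := fun x => by
    set s := S.e * x * S.e - S.eps x • S.e with hs
    refine ⟨S.tau s / S.tau (a * c), sub_eq_zero.mp ?_⟩
    have hsl : S.e * s = s := by
      rw [hs, mul_sub, mul_smul_comm, S.ee, ← mul_assoc, ← mul_assoc, S.ee]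
    have hsr : s * S.e = s := by
      rw [hs, sub_mul, smul_mul_assoc, mul_assoc, S.ee]
    refine S.eq_zero_of_tau S.ee (fun y => ⟨_, S.he y⟩)
      (sub_mem (S.loop_e S.square_ne_bot)
        (Submodule.smul_mem _ _ (S.mem_J2 (S.hef' ha ha') (S.hfe' hc hc')))) ?_ ?_ ?_
    · rw [mul_sub, mul_smul_comm, hsl, ← mul_assoc, ha]
    · rw [sub_mul, smul_mul_assoc, hsr, mul_assoc, hc']
    · rw [map_sub, map_smul, smul_eq_mul, div_mul_cancel₀ _ hac, sub_self]
  have hg1 : ∀ x, ∃ r t : K, S.g * x * S.g - r • S.g = t • (c * a) := fun x => by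
    obtain ⟨r, hr⟩ := S.loop_g S.square_ne_bot (x := x)
    set s := S.g * x * S.g - r • S.g with hs
    refine ⟨r, S.tau s / S.tau (c * a), sub_eq_zero.mp ?_⟩
    have hsl : S.g * s = s := by
      rw [hs, mul_sub, mul_smul_comm, S.gg, ← mul_assoc, ← mul_assoc, S.gg]
    have hsr : s * S.g = s := by
      rw [hs, sub_mul, smul_mul_assoc, mul_assoc, S.gg]
    refine S.eq_zero_of_tau S.gg S.hg
      (sub_mem hr (Submodule.smul_mem _ _ (S.mem_J2 (S.hfe' hc hc') (S.hef' ha ha')))) ?_ ?_ ?_
    · rw [mul_sub, mul_smul_comm, hsl, ← mul_assoc, hc]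
    · rw [sub_mul, smul_mul_assoc, hsr, mul_assoc, ha']
    · rw [map_sub, map_smul, smul_eq_mul, div_mul_cancel₀ _ hca, sub_self]
  refine ⟨a, c, ⟨ha, ha', ha0⟩, ⟨hc, hc', hc₀⟩, fun x => ?_, fun x => ?_, fun x => ?_,
    fun x => ?_, hac⟩
  · set w := S.e * x * S.g with hw
    obtain ⟨t, ht⟩ := he1 (w * c)
    have hwl : S.e * w = w := by rw [hw, ← mul_assoc, ← mul_assoc, S.ee]
    have hwr : w * S.g = w := by rw [hw, mul_assoc, S.gg]
    refine ⟨t, sub_eq_zero.mp ((S.prod_ne_zero ?_ ?_ hc hc' ?_).resolve_right hc₀)⟩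
    · rw [mul_sub, mul_smul_comm, hwl, ha]
    · rw [sub_mul, smul_mul_assoc, hwr, ha']
    · have e0 : S.eps (w * c) = 0 := S.eps_J _ (S.Jl _ _ (S.hfe' hc hc'))
      rw [e0, zero_smul, sub_zero, ← mul_assoc, hwl, mul_assoc, hc'] at ht
      rw [sub_mul, smul_mul_assoc, ht, sub_self]
  · set w := S.g * x * S.e with hw
    obtain ⟨t, ht⟩ := he1 (a * w)
    have hwl : S.g * w = w := by rw [hw, ← mul_assoc, ← mul_assoc, S.gg]
    have hwr : w * S.e = w := by rw [hw, mul_assoc, S.ee]
    refine ⟨t, sub_eq_zero.mp ((S.prod_ne_zero ha ha' ?_ ?_ ?_).resolve_left ha0)⟩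
    · rw [mul_sub, mul_smul_comm, hwl, hc]
    · rw [sub_mul, smul_mul_assoc, hwr, hc']
    · have e0 : S.eps (a * w) = 0 := S.eps_J _ (S.Jr _ _ (S.hef' ha ha'))
      rw [e0, zero_smul, sub_zero, ← mul_assoc, ha, mul_assoc, hwr] at ht
      rw [mul_sub, mul_smul_comm, ht, sub_self]
  · obtain ⟨t, ht⟩ := he1 x
    exact Submodule.mem_span_pair.mpr ⟨S.eps x, t, by rw [← ht, add_sub_cancel]⟩
  · obtain ⟨r, t, ht⟩ := hg1 x
    exact Submodule.mem_span_pair.mpr ⟨r, t, by rw [← ht, add_sub_cancel]⟩

/-- The two projective modules have dimensions `2 + m` and `1 + 2 m`. -/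
theorem finrank_projective :
    Module.finrank K (LinearMap.range (LinearMap.mulRight K S.e)) = 2 + S.m ∧
    Module.finrank K (LinearMap.range (LinearMap.mulRight K S.g)) = 1 + 2 * S.m := by
  obtain ⟨a, c, ⟨ha, ha', ha0⟩, ⟨hc, hc', hc0⟩, hA, hC, hEE, hGG, hac⟩ := S.exists_bases
  have hac0 : a * c ≠ 0 := fun h => hac (by rw [h, map_zero])
  have hca0 : c * a ≠ 0 := fun h => hac (by rw [S.tau_tr, h, map_zero])
  have hepsac : S.eps (a * c) = 0 := S.eps_J _ (S.Jl _ _ (S.hfe' hc hc'))
  have hchica : S.chi (c * a) = 0 := S.chi_J _ (S.Jl _ _ (S.hef' ha ha'))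
  have dec : ∀ x h, S.b * h = h → x * h = S.e * x * h + S.f * x * h := fun x h hb => by
    rw [← add_mul, ← add_mul, S.add, S.bc, mul_assoc, hb]
  constructor
  · let w : Fin 2 ⊕ Fin S.m → A := Sum.elim ![S.e, a * c] fun i => S.u i * c
    have hspan : LinearMap.range (LinearMap.mulRight K S.e) = Submodule.span K (Set.range w) := by
      refine le_antisymm ?_ (Submodule.span_le.mpr ?_)
      · rintro _ ⟨x, rfl⟩
        rw [LinearMap.mulRight_apply, dec x S.e S.be]
        refine add_mem ?_ ?_
        · refine Submodule.span_mono ?_ (hEE x)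
          rintro z (rfl | rfl)
          · exact ⟨Sum.inl 0, rfl⟩
          · exact ⟨Sum.inl 1, rfl⟩
        · rw [← S.huv, Finset.sum_mul, Finset.sum_mul]
          refine Submodule.sum_mem _ fun i _ => ?_
          obtain ⟨t, ht⟩ := hC (S.v i * x)
          rw [← mul_assoc S.g, S.gv] at ht
          rw [show S.u i * S.v i * x * S.e = S.u i * (S.v i * x * S.e) by simp only [mul_assoc], ht,
            mul_smul_comm]
          exact Submodule.smul_mem _ _ (Submodule.subset_span ⟨Sum.inr i, rfl⟩)
      · rintro _ ⟨(k | i), rfl⟩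
        · fin_cases k
          · exact ⟨S.e, by simp [w, S.ee]⟩
          · exact ⟨a * c, by simp [w, mul_assoc, hc']⟩
        · exact ⟨S.u i * c, by simp [w, mul_assoc, hc']⟩
    have hli : LinearIndependent K w := by
      rw [Fintype.linearIndependent_iff]
      intro k hk
      rw [Fintype.sum_sum_type, Fin.sum_univ_two] at hk
      change k (Sum.inl 0) • S.e + k (Sum.inl 1) • (a * c) + ∑ i, k (Sum.inr i) • (S.u i * c) = 0
        at hk
      have h1 := congrArg S.eps hk
      rw [map_add, map_add, map_smul, map_smul, S.eps_e, hepsac, map_sum, map_zero,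
        Finset.sum_eq_zero fun i _ => by
          rw [map_smul, S.eps_J _ (S.Jl _ _ (S.hfe' hc hc')), smul_zero]] at h1
      have k0 : k (Sum.inl 0) = 0 := by simpa using h1
      have h2 := congrArg (S.e * ·) hk
      simp only [mul_add, mul_smul_comm, Finset.mul_sum, mul_zero, k0, zero_smul, zero_add,
        ← mul_assoc, ha, S.eu, zero_mul, smul_zero, Finset.sum_const_zero, add_zero] at h2
      have k1 : k (Sum.inl 1) = 0 := (smul_eq_zero.mp h2).resolve_right hac0
      rintro (q | j)
      · fin_cases q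
        · exact k0
        · exact k1
      · have h3 := congrArg (S.v j * ·) hk
        simp only [mul_add, mul_smul_comm, Finset.mul_sum, mul_zero, k0, k1, zero_smul, zero_add,
          ← mul_assoc, S.hvu, ite_mul, zero_mul, hc, smul_ite, smul_zero, Finset.sum_ite_eq,
          Finset.mem_univ, if_true] at h3
        exact (smul_eq_zero.mp h3).resolve_right hc0
    rw [hspan, finrank_span_eq_card hli]
    simp
  · let w : Fin 1 ⊕ (Fin S.m ⊕ Fin S.m) → A :=
      Sum.elim ![a] (Sum.elim (fun i => S.u i) fun i => S.u i * (c * a))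
    have hbg : S.b * S.g = S.g := by rw [← S.fg, ← mul_assoc, S.bf]
    have hspan : LinearMap.range (LinearMap.mulRight K S.g) = Submodule.span K (Set.range w) := by
      refine le_antisymm ?_ (Submodule.span_le.mpr ?_)
      · rintro _ ⟨x, rfl⟩
        rw [LinearMap.mulRight_apply, dec x S.g hbg]
        refine add_mem ?_ ?_
        · obtain ⟨t, ht⟩ := hA x
          rw [ht]
          exact Submodule.smul_mem _ _ (Submodule.subset_span ⟨Sum.inl 0, rfl⟩)
        · rw [← S.huv, Finset.sum_mul, Finset.sum_mul]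
          refine Submodule.sum_mem _ fun i _ => ?_
          obtain ⟨r, t, ht⟩ := Submodule.mem_span_pair.mp (hGG (S.v i * x))
          rw [← mul_assoc S.g, S.gv] at ht
          rw [show S.u i * S.v i * x * S.g = S.u i * (S.v i * x * S.g) by simp only [mul_assoc],
            ← ht, mul_add, mul_smul_comm, mul_smul_comm, S.ug]
          exact add_mem (Submodule.smul_mem _ _ (Submodule.subset_span ⟨Sum.inr (Sum.inl i), rfl⟩))
            (Submodule.smul_mem _ _ (Submodule.subset_span ⟨Sum.inr (Sum.inr i), rfl⟩))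
      · rintro _ ⟨(k | i | i), rfl⟩
        · exact ⟨a, by fin_cases k; simp [w, ha']⟩
        · exact ⟨S.u i, by simp [w, S.ug]⟩
        · exact ⟨S.u i * (c * a), by simp [w, mul_assoc, ha']⟩
    have hli : LinearIndependent K w := by
      rw [Fintype.linearIndependent_iff]
      intro k hk
      rw [Fintype.sum_sum_type, Fintype.sum_sum_type, Fin.sum_univ_one] at hk
      change k (Sum.inl 0) • a + (∑ i, k (Sum.inr (Sum.inl i)) • S.u i +
        ∑ i, k (Sum.inr (Sum.inr i)) • (S.u i * (c * a))) = 0 at hk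
      have h2 := congrArg (S.e * ·) hk
      simp only [mul_add, mul_smul_comm, Finset.mul_sum, mul_zero, ← mul_assoc, ha, S.eu, zero_mul,
        smul_zero, Finset.sum_const_zero, add_zero] at h2
      have k0 : k (Sum.inl 0) = 0 := (smul_eq_zero.mp h2).resolve_right ha0
      have h3 : ∀ j, k (Sum.inr (Sum.inl j)) • S.g + k (Sum.inr (Sum.inr j)) • (c * a) = 0 :=
        fun j => by
        have h := congrArg (S.v j * ·) hk
        simpa only [mul_add, mul_smul_comm, Finset.mul_sum, mul_zero, k0, zero_smul, zero_add,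
          ← mul_assoc, S.hvu, ite_mul, zero_mul, hc, smul_ite, smul_zero, Finset.sum_ite_eq,
          Finset.mem_univ, if_true] using h
      have k1 : ∀ j, k (Sum.inr (Sum.inl j)) = 0 := fun j => by
        have h := congrArg S.chi (h3 j)
        simpa [S.chi_g, hchica] using h
      rintro (q | j | j)
      · fin_cases q; exact k0
      · exact k1 j
      · have h := h3 j
        rw [k1 j, zero_smul, zero_add] at h
        exact (smul_eq_zero.mp h).resolve_right hca0
    rw [hspan, finrank_span_eq_card hli]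
    simp [two_mul]

end Setting

end CfsgLib.KThree
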